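import Cfsg.Agent.Lib.Subspaces.Transvection

/-!
Transvections inside `SL_n(F)`, moves generated by them, and the characters of `Fⁿ` used to bound the
index of a subgroup of `SL_n(F)`.
-/

set_option autoImplicit false

namespace Cfsg.Agent.Lib.MinIndex

open Matrix
open Cfsg.Agent.Lib.Subspaces

variable {F : Type*} [Field F] {k : ℕ}

/-- The transvection `x ↦ x + (φ · x) v` in `SL`; the identity when `φ · v ≠ 0`. -/
noncomputable def T (v φ : Fin k → F) : Matrix.SpecialLinearGroup (Fin k) F :=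
  ⟨(Transvection.tv v φ : Matrix (Fin k) (Fin k) F), Transvection.det_tv v φ⟩

theorem toGL_T (v φ : Fin k → F) : Matrix.SpecialLinearGroup.toGL (T v φ) = Transvection.tv v φ :=
  Units.ext rfl

theorem coe_T {v φ : Fin k → F} (h : φ ⬝ᵥ v = 0) :
    ((T v φ : Matrix.SpecialLinearGroup (Fin k) F) : Matrix (Fin k) (Fin k) F) = 1 + vecMulVec v φ :=
  Transvection.coe_tv h

theorem T_mulVec {v φ : Fin k → F} (h : φ ⬝ᵥ v = 0) (x : Fin k → F) :
    ((T v φ : Matrix.SpecialLinearGroup (Fin k) F) : Matrix (Fin k) (Fin k) F) *ᵥ x = x + (φ ⬝ᵥ x) • v :=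
  Transvection.tv_mulVec h x

theorem vecMul_T {v φ : Fin k → F} (h : φ ⬝ᵥ v = 0) (f : Fin k → F) :
    f ᵥ* ((T v φ : Matrix.SpecialLinearGroup (Fin k) F) : Matrix (Fin k) (Fin k) F) = f + (f ⬝ᵥ v) • φ := by
  rw [coe_T h, vecMul_add, vecMul_one, vecMul_vecMulVec]

theorem T_add {v φ ψ : Fin k → F} (h : φ ⬝ᵥ v = 0) (h' : ψ ⬝ᵥ v = 0) :
    T v φ * T v ψ = T v (φ + ψ) := by
  apply Matrix.SpecialLinearGroup.toGL_injective
  rw [map_mul, toGL_T, toGL_T, toGL_T, Transvection.tv_mul_center h h']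

theorem T_zero (v : Fin k → F) : T v 0 = 1 := by
  apply Matrix.SpecialLinearGroup.toGL_injective
  rw [map_one, toGL_T, Transvection.tv_zero_right]

theorem T_inv {v φ : Fin k → F} (h : φ ⬝ᵥ v = 0) : (T v φ)⁻¹ = T v (-φ) := by
  apply Matrix.SpecialLinearGroup.toGL_injective
  rw [map_inv, toGL_T, toGL_T, Transvection.tv_inv h]

theorem T_smul {v φ : Fin k → F} (h : φ ⬝ᵥ v = 0) (a : F) : T (a • v) φ = T v (a • φ) := by
  apply Matrix.SpecialLinearGroup.toGL_injective
  rw [toGL_T, toGL_T, Transvection.tv_smul h]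

theorem T_mul_axis {v w φ : Fin k → F} (h : φ ⬝ᵥ v = 0) (h' : φ ⬝ᵥ w = 0) :
    T v φ * T w φ = T (v + w) φ := by
  apply Matrix.SpecialLinearGroup.toGL_injective
  rw [map_mul, toGL_T, toGL_T, toGL_T, Transvection.tv_mul_axis h h']

theorem T_eq_one {v φ : Fin k → F} (hv : v ≠ 0) (h : φ ⬝ᵥ v = 0) (h1 : T v φ = 1) : φ = 0 := by
  funext j
  have h2 := congrArg (fun s : Matrix.SpecialLinearGroup (Fin k) F => (s : Matrix (Fin k) (Fin k) F) *ᵥ Pi.single j 1) h1
  simp only [T_mulVec h, Matrix.SpecialLinearGroup.coe_one, one_mulVec, dotProduct_single, mul_one,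
    add_eq_left, smul_eq_zero] at h2
  exact h2.resolve_right hv

theorem conj_T (g : Matrix.SpecialLinearGroup (Fin k) F) {v φ : Fin k → F} (h : φ ⬝ᵥ v = 0) :
    g * T v φ * g⁻¹ = T ((g : Matrix (Fin k) (Fin k) F) *ᵥ v)
      (φ ᵥ* ((g⁻¹ : Matrix.SpecialLinearGroup (Fin k) F) : Matrix (Fin k) (Fin k) F)) := by
  apply Matrix.SpecialLinearGroup.toGL_injective
  rw [map_mul, map_mul, map_inv, toGL_T, toGL_T, Transvection.conj_tv _ h, ← map_inv]
  rfl

theorem dot_transport (g : Matrix.SpecialLinearGroup (Fin k) F) (φ v : Fin k → F) :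
    (φ ᵥ* ((g⁻¹ : Matrix.SpecialLinearGroup (Fin k) F) : Matrix (Fin k) (Fin k) F)) ⬝ᵥ
      ((g : Matrix (Fin k) (Fin k) F) *ᵥ v) = φ ⬝ᵥ v := by
  rw [← dotProduct_mulVec, mulVec_mulVec, ← Matrix.SpecialLinearGroup.coe_mul, inv_mul_cancel,
    Matrix.SpecialLinearGroup.coe_one, one_mulVec]

theorem mulVec_inv_cancel (g : Matrix.SpecialLinearGroup (Fin k) F) (x : Fin k → F) :
    (g : Matrix (Fin k) (Fin k) F) *ᵥ
      (((g⁻¹ : Matrix.SpecialLinearGroup (Fin k) F) : Matrix (Fin k) (Fin k) F) *ᵥ x) = x := by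
  rw [mulVec_mulVec, ← Matrix.SpecialLinearGroup.coe_mul, mul_inv_cancel,
    Matrix.SpecialLinearGroup.coe_one, one_mulVec]

theorem inv_mulVec_cancel (g : Matrix.SpecialLinearGroup (Fin k) F) (x : Fin k → F) :
    ((g⁻¹ : Matrix.SpecialLinearGroup (Fin k) F) : Matrix (Fin k) (Fin k) F) *ᵥ
      ((g : Matrix (Fin k) (Fin k) F) *ᵥ x) = x := by
  simpa using mulVec_inv_cancel g⁻¹ x

theorem mulVec_ne_zero (g : Matrix.SpecialLinearGroup (Fin k) F) {x : Fin k → F} (hx : x ≠ 0) :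
    (g : Matrix (Fin k) (Fin k) F) *ᵥ x ≠ 0 := fun h => hx (by rw [← inv_mulVec_cancel g x, h, mulVec_zero])

/-! ### Moves -/

/-- A function invariant under the moves `u ↦ u + (φ · u) w`, `φ · w = 0`, is constant on non-zero vectors. -/
theorem const_of_moves (hk : 2 ≤ k) {β : Sort*} (f : (Fin k → F) → β)
    (hf : ∀ w φ u : Fin k → F, φ ⬝ᵥ w = 0 → f (u + (φ ⬝ᵥ u) • w) = f u)
    {u u' : Fin k → F} (hu : u ≠ 0) (hu' : u' ≠ 0) : f u = f u' := by
  have step : ∀ u u' : Fin k → F, u ≠ 0 → u' ∉ Submodule.span F {u} → f u = f u' := by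
    intro u u' hu hpar
    have hmem : u ∉ Submodule.span F {u' - u} := by
      intro hmem
      obtain ⟨c, hc⟩ := Submodule.mem_span_singleton.1 hmem
      have hc0 : c ≠ 0 := by rintro rfl; exact hu (by simpa using hc.symm)
      refine hpar (Submodule.mem_span_singleton.2 ⟨c⁻¹ + 1, ?_⟩)
      have h2 : u' = c⁻¹ • (c • (u' - u)) + u := by rw [smul_smul, inv_mul_cancel₀ hc0, one_smul, sub_add_cancel]
      rw [hc] at h2
      rw [add_smul, one_smul, ← h2]
    obtain ⟨φ, hφ, hφu⟩ := Transvection.exists_functional hmem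
    have := hf (u' - u) φ u (hφ _ (Submodule.mem_span_singleton_self _))
    rw [hφu, one_smul, add_sub_cancel] at this
    exact this.symm
  by_cases hpar : u' ∈ Submodule.span F {u}
  · obtain ⟨u'', hu''⟩ : ∃ x : Fin k → F, x ∉ Submodule.span F {u} := by
      by_contra hall
      simp only [not_exists, not_not] at hall
      have h1 := finrank_span_singleton (K := F) hu
      have htop : Submodule.span F {u} = ⊤ := Submodule.eq_top_iff'.2 hall
      rw [htop, finrank_top, Module.finrank_fin_fun] at h1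
      omega
    obtain ⟨c, rfl⟩ := Submodule.mem_span_singleton.1 hpar
    rw [step u u'' hu hu'']
    refine (step (c • u) u'' hu' fun hh => hu'' ?_).symm
    obtain ⟨d, hd⟩ := Submodule.mem_span_singleton.1 hh
    exact Submodule.mem_span_singleton.2 ⟨d * c, by rw [← hd, smul_smul]⟩
  · exact step u u' hu hpar

/-- `SL` is transitive on non-zero vectors. -/
theorem exists_mulVec_eq (hk : 2 ≤ k) {u u' : Fin k → F} (hu : u ≠ 0) (hu' : u' ≠ 0) :
    ∃ g : Matrix.SpecialLinearGroup (Fin k) F, (g : Matrix (Fin k) (Fin k) F) *ᵥ u = u' := by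
  have h : (∃ g : Matrix.SpecialLinearGroup (Fin k) F, (g : Matrix (Fin k) (Fin k) F) *ᵥ u = u) =
      (∃ g : Matrix.SpecialLinearGroup (Fin k) F, (g : Matrix (Fin k) (Fin k) F) *ᵥ u = u') :=
    const_of_moves hk (fun x => ∃ g : Matrix.SpecialLinearGroup (Fin k) F, (g : Matrix (Fin k) (Fin k) F) *ᵥ u = x)
      (fun w φ x hw => propext ⟨fun ⟨g, hg⟩ => ⟨T w (-φ) * g, by
          rw [Matrix.SpecialLinearGroup.coe_mul, ← mulVec_mulVec, hg,
            T_mulVec (by rw [neg_dotProduct, hw, neg_zero])]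
          simp [dotProduct_add, dotProduct_smul, hw]⟩,
        fun ⟨g, hg⟩ => ⟨T w φ * g, by
          rw [Matrix.SpecialLinearGroup.coe_mul, ← mulVec_mulVec, hg, T_mulVec hw]⟩⟩) hu hu'
  exact h ▸ ⟨1, by rw [Matrix.SpecialLinearGroup.coe_one, one_mulVec]⟩

/-- `SL` is transitive on non-zero functionals. -/
theorem exists_vecMul_eq (hk : 2 ≤ k) {φ φ' : Fin k → F} (hφ : φ ≠ 0) (hφ' : φ' ≠ 0) :
    ∃ g : Matrix.SpecialLinearGroup (Fin k) F, φ ᵥ* (g : Matrix (Fin k) (Fin k) F) = φ' := by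
  obtain ⟨g, hg⟩ := exists_mulVec_eq hk hφ hφ'
  exact ⟨g.transpose, by rw [Matrix.SpecialLinearGroup.coe_transpose, vecMul_transpose, hg]⟩

/-! ### Characters -/

/-- A non-trivial additive character of a finite field with values in a field of characteristic zero. -/
theorem exists_primitive (F : Type*) [Field F] [Fintype F] : ∃ (K : Type) (_ : Field K) (_ : CharZero K)
    (ψ : AddChar F K), ψ.IsPrimitive := by
  have hne : ringChar ℂ ≠ ringChar F := by
    rw [ringChar.eq_zero]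
    exact ((CharP.char_is_prime F (ringChar F)).ne_zero).symm
  let P := AddChar.FiniteField.primitiveChar F ℂ hne
  exact ⟨CyclotomicField P.n ℂ, inferInstance, charZero_of_injective_algebraMap (algebraMap ℂ _).injective, P.char, P.prim⟩

variable {K : Type*} [Field K] (ψ : AddChar F K)

/-- The annihilator of a set of functionals with respect to `ψ`. -/
def ann (S : AddSubgroup (Fin k → F)) : Set (Fin k → F) := {u | ∀ a ∈ S, ψ (a ⬝ᵥ u) = 1}

theorem zero_mem_ann (S : AddSubgroup (Fin k → F)) : (0 : Fin k → F) ∈ ann ψ S := fun a _ => by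
  rw [dotProduct_zero, AddChar.map_zero_eq_one]

theorem add_mem_ann {S : AddSubgroup (Fin k → F)} {u v : Fin k → F} (hu : u ∈ ann ψ S) (hv : v ∈ ann ψ S) :
    u + v ∈ ann ψ S := fun a ha => by rw [dotProduct_add, AddChar.map_add_eq_mul, hu a ha, hv a ha, one_mul]

theorem sub_mem_ann {S : AddSubgroup (Fin k → F)} {u v : Fin k → F} (hu : u ∈ ann ψ S) (hv : v ∈ ann ψ S) :
    u - v ∈ ann ψ S := fun a ha => by
  rw [dotProduct_sub, sub_eq_add_neg, AddChar.map_add_eq_mul, hu a ha, one_mul, ← dotProduct_neg]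
  rw [dotProduct_neg, ← neg_dotProduct]
  exact hv _ (neg_mem ha)

variable [Fintype F] [CharZero K]

theorem card_mul_ann (hψ : ψ.IsPrimitive) (S : AddSubgroup (Fin k → F)) :
    Nat.card S * (ann ψ S).ncard = Fintype.card F ^ k := by
  classical
  have hsum : ∀ u : Fin k → F,
      ∑ a : S, ψ ((a : Fin k → F) ⬝ᵥ u) = if u ∈ ann ψ S then (Nat.card S : K) else 0 := by
    intro u
    let χ : AddChar S K := ⟨fun a => ψ ((a : Fin k → F) ⬝ᵥ u), by simp [AddChar.map_zero_eq_one], fun a b => by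
      rw [AddSubgroup.coe_add, add_dotProduct, AddChar.map_add_eq_mul]⟩
    by_cases hu : u ∈ ann ψ S
    · rw [if_pos hu, Finset.sum_congr rfl fun a _ => hu _ a.2, Finset.sum_const, Finset.card_univ,
        nsmul_one, Nat.card_eq_fintype_card]
    · rw [if_neg hu]
      refine AddChar.sum_eq_zero_of_ne_one (ψ := χ) fun h1 => hu fun a ha => ?_
      exact DFunLike.congr_fun h1 ⟨a, ha⟩
  have hsum' : ∀ a : Fin k → F, a ≠ 0 → ∑ u : Fin k → F, ψ (a ⬝ᵥ u) = 0 := by
    intro a ha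
    let χ : AddChar (Fin k → F) K := ⟨fun u => ψ (a ⬝ᵥ u), by simp [AddChar.map_zero_eq_one], fun x y => by
      rw [dotProduct_add, AddChar.map_add_eq_mul]⟩
    refine AddChar.sum_eq_zero_of_ne_one (ψ := χ) fun h1 => ?_
    obtain ⟨i, hi⟩ := Function.ne_iff.1 ha
    simp only [Pi.zero_apply] at hi
    refine hψ hi (DFunLike.ext _ _ fun x => ?_)
    have := DFunLike.congr_fun h1 (Pi.single i x)
    simpa [χ, AddChar.mulShift_apply] using this
  have h1 : ∑ u : Fin k → F, ∑ a : S, ψ ((a : Fin k → F) ⬝ᵥ u) = ((Nat.card S * (ann ψ S).ncard : ℕ) : K) := by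
    simp_rw [hsum]
    rw [← Finset.sum_filter, Finset.sum_const, nsmul_eq_mul, Nat.cast_mul, mul_comm,
      ← Set.ncard_coe_finset]
    congr 3
    ext u
    simp
  rw [Finset.sum_comm, Finset.sum_eq_single (0 : S)] at h1
  · have h2 : ∑ u : Fin k → F, ψ (((0 : S) : Fin k → F) ⬝ᵥ u) = ((Fintype.card F ^ k : ℕ) : K) := by
      simp [AddChar.map_zero_eq_one]
    rw [h2] at h1
    exact (Nat.cast_inj.1 h1).symm
  · exact fun a _ ha => hsum' _ fun h0 => ha (Subtype.ext h0)
  · simp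

end Cfsg.Agent.Lib.MinIndex
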