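import Cfsg.Agent.Lib.MinIndex.Regular

/-!
The minimal index of a proper subgroup of `SL_n(F)`, `n ≥ 3`.
-/

set_option autoImplicit false
set_option linter.unusedSectionVars false

namespace Cfsg.Agent.Lib.MinIndex

open Matrix Module
open scoped LinearAlgebra.Projectivization
open Cfsg.Agent.Lib.Subspaces

variable {F : Type*} [Field F]

/-- Cosets separate the points of any family of elements which `H` separates. -/
theorem card_le_index {Γ : Type*} [Group Γ] [Finite Γ] (H : Subgroup Γ) {ι : Type*} (g : ι → Γ)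
    (h : ∀ i j, (g i)⁻¹ * g j ∈ H → i = j) : Nat.card ι ≤ H.index :=
  Nat.card_le_card_of_injective (fun i => (QuotientGroup.mk (g i) : Γ ⧸ H))
    fun i j hij => h i j (QuotientGroup.eq.1 hij)

theorem index_ge_of_reducible [Fintype F] {m : ℕ} (hm : 2 ≤ m)
    (H : Subgroup (Matrix.SpecialLinearGroup (Fin (m + 1)) F)) (W : Submodule F (Fin (m + 1) → F))
    (h0 : W ≠ ⊥) (h1 : W ≠ ⊤) (hW : ∀ g ∈ H, ∀ w ∈ W, (g : Matrix (Fin (m + 1)) (Fin (m + 1)) F) *ᵥ w ∈ W) :
    Nat.card (ℙ F (Fin (m + 1) → F)) ≤ H.index := by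
  obtain ⟨w, hw, hw0⟩ := Submodule.exists_mem_ne_zero_of_ne_bot h0
  have hk1 : 1 ≤ finrank F W := by
    rcases Nat.eq_zero_or_pos (finrank F W) with h | h
    · exact absurd (Submodule.finrank_eq_zero.1 h) h0
    · exact h
  have hk2 : finrank F W ≤ m := by
    have := Submodule.finrank_lt h1
    rw [finrank_fin_fun] at this
    omega
  obtain h | h | h : finrank F W = 1 ∨ finrank F W = m ∨ (2 ≤ finrank F W ∧ finrank F W + 1 ≤ m) := by omega
  · have hWw : ∀ x ∈ W, ∃ c : F, x = c • w := by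
      intro x hx
      obtain ⟨c, hc⟩ := (finrank_eq_one_iff_of_nonzero' (⟨w, hw⟩ : W) (by simpa using hw0)).1 h ⟨x, hx⟩
      exact ⟨c, (congrArg Subtype.val hc).symm⟩
    choose g hg using fun p : ℙ F (Fin (m + 1) → F) => exists_mulVec_eq (by omega) hw0 p.rep_nonzero
    refine card_le_index H g fun p p' hpp => ?_
    obtain ⟨c, hc⟩ := hWw _ (hW _ hpp w hw)
    rw [Matrix.SpecialLinearGroup.coe_mul, ← mulVec_mulVec, hg] at hc
    have hc' := congrArg (fun x => (g p : Matrix (Fin (m + 1)) (Fin (m + 1)) F) *ᵥ x) hc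
    simp only [mulVec_inv_cancel, mulVec_smul, hg] at hc'
    rw [← p.mk_rep, ← p'.mk_rep]
    exact ((Projectivization.mk_eq_mk_iff' F _ _ _ _).2 ⟨c, hc'.symm⟩).symm
  · obtain ⟨v, hv⟩ : ∃ v, v ∉ W := by
      by_contra hall
      simp only [not_exists, not_not] at hall
      exact h1 (Submodule.eq_top_iff'.2 hall)
    obtain ⟨φ, hφ, hφv⟩ := Transvection.exists_functional hv
    have hφ0 : φ ≠ 0 := fun h0 => by rw [h0, zero_dotProduct] at hφv; exact zero_ne_one hφv
    have hdec : ∀ x, x - (φ ⬝ᵥ x) • v ∈ W := by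
      have hsup : W ⊔ Submodule.span F {v} = ⊤ := by
        refine Submodule.eq_top_of_finrank_eq ?_
        have h3 := Submodule.finrank_lt_finrank_of_lt (show W < W ⊔ Submodule.span F {v} from
          lt_of_le_not_ge le_sup_left fun hle => hv (hle (Submodule.mem_sup_right (Submodule.mem_span_singleton_self v))))
        have h4 := Submodule.finrank_le (W ⊔ Submodule.span F {v})
        rw [finrank_fin_fun] at h4 ⊢
        omega
      intro x
      have hx : x ∈ W ⊔ Submodule.span F {v} := by rw [hsup]; trivial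
      obtain ⟨y, hy, z, hz, rfl⟩ := Submodule.mem_sup.1 hx
      obtain ⟨c, rfl⟩ := Submodule.mem_span_singleton.1 hz
      simp [dotProduct_add, hφ y hy, hφv, hy]
    choose g hg using fun p : ℙ F (Fin (m + 1) → F) => exists_vecMul_eq (by omega) hφ0 p.rep_nonzero
    refine card_le_index H (fun p => (g p)⁻¹) fun p p' hpp => ?_
    simp only [inv_inv] at hpp
    have hpp' := inv_mem hpp
    rw [_root_.mul_inv_rev, inv_inv] at hpp'
    set t := g p' * (g p)⁻¹
    have hc : φ ᵥ* (t : Matrix (Fin (m + 1)) (Fin (m + 1)) F) =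
        (φ ⬝ᵥ ((t : Matrix (Fin (m + 1)) (Fin (m + 1)) F) *ᵥ v)) • φ := by
      funext i
      have h2 : φ ⬝ᵥ ((t : Matrix (Fin (m + 1)) (Fin (m + 1)) F) *ᵥ (Pi.single i 1 - (φ ⬝ᵥ Pi.single i 1) • v)) = 0 :=
        hφ _ (hW t hpp' _ (hdec _))
      rw [mulVec_sub, mulVec_smul, dotProduct_sub, dotProduct_smul, dotProduct_mulVec, dotProduct_single, mul_one,
        dotProduct_single, mul_one, sub_eq_zero, smul_eq_mul] at h2
      rw [h2, Pi.smul_apply, smul_eq_mul, mul_comm]
    have hc' := congrArg (fun x => x ᵥ* (g p : Matrix (Fin (m + 1)) (Fin (m + 1)) F)) hc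
    simp only [t, vecMul_vecMul, ← Matrix.SpecialLinearGroup.coe_mul, inv_mul_cancel_right, smul_vecMul, hg] at hc'
    rw [← p.mk_rep, ← p'.mk_rep]
    exact ((Projectivization.mk_eq_mk_iff' F _ _ _ _).2 ⟨_, hc'.symm⟩).symm
  · obtain ⟨C, hWC⟩ := W.exists_isCompl
    let π : (Fin (m + 1) → F) →ₗ[F] W := W.projectionOnto C hWC
    let π' : (Fin (m + 1) → F) →ₗ[F] (Fin (m + 1) → F) := W.subtype.comp π
    let N : (W →ₗ[F] C) → (Fin (m + 1) → F) →ₗ[F] (Fin (m + 1) → F) := fun L => C.subtype.comp (L.comp π)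
    have hNN : ∀ L x, π (N L x) = 0 := fun L x => Submodule.projectionOnto_apply_right hWC (L (π x))
    have hNW : ∀ L (w : W), N L (w : Fin (m + 1) → F) = (L w : Fin (m + 1) → F) := fun L w => by
      simp only [N, π, LinearMap.comp_apply, Submodule.coe_subtype, Submodule.projectionOnto_apply_left]
    have hdet : ∀ L, (1 + LinearMap.toMatrix' (N L)).det = 1 := by
      intro L
      have e : N L = (N L).comp π' := by
        apply LinearMap.ext; intro x
        simp only [N, π', π, LinearMap.comp_apply, Submodule.coe_subtype, Submodule.projectionOnto_apply_left]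
      have e' : π'.comp (N L) = 0 := by
        apply LinearMap.ext; intro x
        simp only [π', LinearMap.comp_apply, hNN, map_zero, LinearMap.zero_apply]
      rw [e, LinearMap.toMatrix'_comp, det_one_add_mul_comm, ← LinearMap.toMatrix'_comp, e', map_zero, add_zero,
        det_one]
    let g : (W →ₗ[F] C) → Matrix.SpecialLinearGroup (Fin (m + 1)) F :=
      fun L => ⟨1 + LinearMap.toMatrix' (N L), hdet L⟩
    have hg : ∀ L x, (g L : Matrix (Fin (m + 1)) (Fin (m + 1)) F) *ᵥ x = x + N L x := fun L x => by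
      show (1 + LinearMap.toMatrix' (N L)) *ᵥ x = _
      rw [add_mulVec, one_mulVec, LinearMap.toMatrix'_mulVec]
    have hcard : Nat.card (ℙ F (Fin (m + 1) → F)) ≤ Nat.card (W →ₗ[F] C) := by
      have hfC : finrank F W + finrank F C = m + 1 := by
        rw [Submodule.finrank_add_eq_of_isCompl hWC, finrank_fin_fun]
      rw [Module.natCard_eq_pow_finrank (K := F) (V := W →ₗ[F] C), Module.finrank_linearMap]
      have h3 : m + 1 ≤ finrank F W * finrank F C := by
        obtain ⟨a, ha⟩ := Nat.exists_eq_add_of_le h.1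
        obtain ⟨b, hb⟩ := Nat.exists_eq_add_of_le (show 2 ≤ finrank F C by omega)
        rw [ha, hb] at hfC ⊢
        have : (2 + a) * (2 + b) = 4 + 2 * a + 2 * b + a * b := by ring
        omega
      refine le_trans ?_ (Nat.pow_le_pow_right Nat.card_pos h3)
      have h4 := Projectivization.card' (k := F) (V := Fin (m + 1) → F)
      rw [Nat.card_fun, Nat.card_fin] at h4
      have h5 : Nat.card (ℙ F (Fin (m + 1) → F)) ≤ Nat.card (ℙ F (Fin (m + 1) → F)) * (Nat.card F - 1) :=
        Nat.le_mul_of_pos_right _ (by have := Finite.one_lt_card (α := F); omega)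
      omega
    refine le_trans hcard (card_le_index H g fun L L' hLL => LinearMap.ext fun w => ?_)
    have h2 := hW _ hLL (w : Fin (m + 1) → F) w.2
    obtain ⟨y, hy, hy'⟩ : ∃ y ∈ W, (g L' : Matrix (Fin (m + 1)) (Fin (m + 1)) F) *ᵥ (w : Fin (m + 1) → F) =
        (g L : Matrix (Fin (m + 1)) (Fin (m + 1)) F) *ᵥ y :=
      ⟨_, h2, by rw [Matrix.SpecialLinearGroup.coe_mul, ← mulVec_mulVec, mulVec_inv_cancel]⟩
    rw [hg, hg, hNW, hNW L ⟨y, hy⟩] at hy'
    have h5 : (w : Fin (m + 1) → F) - y = (L ⟨y, hy⟩ : Fin (m + 1) → F) - (L' w : Fin (m + 1) → F) := by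
      rw [sub_eq_sub_iff_add_eq_add, hy']
      exact add_comm _ _
    have h6 : (w : Fin (m + 1) → F) - y = 0 :=
      Submodule.disjoint_def.1 hWC.disjoint _ (W.sub_mem w.2 hy) (h5 ▸ C.sub_mem (L _).2 (L' w).2)
    have h7 : (⟨y, hy⟩ : W) = w := Subtype.ext (sub_eq_zero.1 h6).symm
    rw [h6, h7] at h5
    exact Subtype.ext (sub_eq_zero.1 h5.symm)

variable [Fintype F]

theorem index_ge_or_top {m : ℕ} (hm : 2 ≤ m) (hexc : ¬ (m = 3 ∧ Fintype.card F = 2))
    (H : Subgroup (Matrix.SpecialLinearGroup (Fin (m + 1)) F)) (hH : H ≠ ⊤) :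
    Nat.card (ℙ F (Fin (m + 1) → F)) ≤ H.index := by
  classical
  by_contra hlt
  rw [not_le] at hlt
  -- no coset is fixed by a full group of transvections with given centre
  have hfix : NoFix H := by
    intro ω
    induction ω using QuotientGroup.induction_on
    rename_i g
    by_contra hall
    simp only [not_exists, not_not] at hall
    set M := H.map Matrix.SpecialLinearGroup.toGL
    set x := ((g⁻¹ : Matrix.SpecialLinearGroup (Fin (m + 1)) F) : Matrix (Fin (m + 1)) (Fin (m + 1)) F) *ᵥ (e0 : Fin (m + 1) → F)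
    have hfull : Transvection.FullCenter M x := by
      intro φ hφ
      have h0 : (φ ᵥ* ((g⁻¹ : Matrix.SpecialLinearGroup (Fin (m + 1)) F) : Matrix (Fin (m + 1)) (Fin (m + 1)) F)) ⬝ᵥ
          (e0 : Fin (m + 1) → F) = 0 := by rw [← dotProduct_mulVec]; exact hφ
      obtain ⟨a, ha⟩ := exists_cons h0
      have hm' := (mem_St_mk H g a).1 (hall a)
      rw [← ha] at hm'
      have h3 := conj_T g⁻¹ h0
      rw [inv_inv] at h3
      rw [h3, vecMul_vecMul, ← Matrix.SpecialLinearGroup.coe_mul, inv_mul_cancel,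
        Matrix.SpecialLinearGroup.coe_one, vecMul_one] at hm'
      exact ⟨_, hm', toGL_T _ _⟩
    by_cases htop : Transvection.fullCenters M = ⊤
    · refine hH (eq_top_iff.2 fun s _ => ?_)
      have h4 := Transvection.specialLinear_le_of_fullCenter (M := M)
        (fun v => Transvection.mem_fullCenters.1 (by rw [htop]; trivial))
        (show Matrix.SpecialLinearGroup.toGL s ∈ _ by
          rw [Transvection.mem_specialLinear_iff]; exact s.2)
      obtain ⟨s', hs', he⟩ := h4
      rwa [Matrix.SpecialLinearGroup.toGL_injective he] at hs'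
    · refine absurd (index_ge_of_reducible hm H (Transvection.fullCenters M) ?_ htop fun s hs w hw => ?_) (by omega)
      · intro hbot
        have h5 : x ∈ Transvection.fullCenters M := hfull
        rw [hbot, Submodule.mem_bot] at h5
        exact mulVec_ne_zero g⁻¹ e0_ne h5
      · exact Transvection.fullCenter_conj hw (g := Matrix.SpecialLinearGroup.toGL s) ⟨s, hs, rfl⟩
  set q := Fintype.card F with hq
  set N := Nat.card (ℙ F (Fin (m + 1) → F))
  have hN : N * (q - 1) = q ^ (m + 1) - 1 := by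
    have h4 := Projectivization.card (k := F) (V := Fin (m + 1) → F)
    rw [Nat.card_fun, Nat.card_fin, Nat.card_eq_fintype_card] at h4
    exact h4.symm
  have hq2 : 2 ≤ q := Fintype.one_lt_card
  have hNq : q ^ m ≤ N := by
    refine Nat.le_of_mul_le_mul_right ?_ (show 0 < q - 1 by omega)
    rw [hN, Nat.mul_sub_one, ← pow_succ]
    have : 1 ≤ q ^ m := Nat.one_le_pow _ _ (by omega)
    omega
  have hMq : (N - q ^ m) * (q - 1) = q ^ m - 1 := by
    rw [Nat.sub_mul, hN, Nat.mul_sub_one, ← pow_succ]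
    have : q ^ m ≤ q ^ (m + 1) := Nat.pow_le_pow_right (by omega) (by omega)
    omega
  rcases dichotomy H hm hfix hMq (by rw [← hq]; omega) with ⟨hbot, horb⟩ | ⟨hP, hindex⟩
  · obtain ⟨k, rfl⟩ : ∃ k, m = k + 1 := ⟨m - 1, by omega⟩
    have hR : IsRegular H := by
      refine ⟨fun v φ hv hφ hT => ?_, fun g => ?_⟩
      · obtain ⟨g, hg⟩ := exists_mulVec_eq (by omega) e0_ne hv
        have h0 : (φ ᵥ* (g : Matrix (Fin (k + 1 + 1)) (Fin (k + 1 + 1)) F)) ⬝ᵥ e0 = 0 := by
          rw [← dotProduct_mulVec, hg, hφ]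
        obtain ⟨a, ha⟩ := exists_cons h0
        have hmem : a ∈ St H ((g⁻¹ : Matrix.SpecialLinearGroup (Fin (k + 1 + 1)) F) : _ ⧸ H) := by
          rw [mem_St_mk, inv_inv, ← ha, conj_T g h0, hg, vecMul_vecMul, ← Matrix.SpecialLinearGroup.coe_mul,
            mul_inv_cancel, Matrix.SpecialLinearGroup.coe_one, vecMul_one]
          exact hT
        rw [hbot, AddSubgroup.mem_bot] at hmem
        rw [hmem, cons_zero] at ha
        have := congrArg (fun x => x ᵥ* ((g⁻¹ : Matrix.SpecialLinearGroup (Fin (k + 1 + 1)) F) : Matrix (Fin (k + 1 + 1)) (Fin (k + 1 + 1)) F)) ha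
        simpa only [vecMul_vecMul, ← Matrix.SpecialLinearGroup.coe_mul, mul_inv_cancel, Matrix.SpecialLinearGroup.coe_one, vecMul_one, zero_vecMul] using this
      · obtain ⟨a, ha⟩ := horb ((1 : Matrix.SpecialLinearGroup (Fin (k + 1 + 1)) F) : _ ⧸ H) (g : _ ⧸ H)
        simp only [MulAction.Quotient.smul_coe, smul_eq_mul, mul_one] at ha
        exact ⟨a, QuotientGroup.eq.1 ha⟩
    exact hR.false_of_regular (by omega) fun hh => hexc ⟨by omega, hh.2⟩
  · -- the incidence structure is impossible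
    have hu : ∀ x : Fin (m + 1) → F, x ≠ 0 → ∃ u, u ∉ Submodule.span F {x} ∧
        ∀ φ, φ ⬝ᵥ x = 0 → (T x φ ∈ H ↔ φ ⬝ᵥ u = 0) := by
      intro x hx
      obtain ⟨g, hg⟩ := exists_mulVec_eq (by omega) (e0_ne (F := F) (m := m)) hx
      obtain ⟨v, hv, hvS⟩ := hP ((g⁻¹ : Matrix.SpecialLinearGroup (Fin (m + 1)) F) : _ ⧸ H)
      refine ⟨(g : Matrix (Fin (m + 1)) (Fin (m + 1)) F) *ᵥ Fin.cons 0 v, fun hmem => ?_, fun φ hφ => ?_⟩
      · obtain ⟨c, hc⟩ := Submodule.mem_span_singleton.1 hmem
        rw [← hg, ← mulVec_smul] at hc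
        have h5 := congrArg (fun y => ((g⁻¹ : Matrix.SpecialLinearGroup (Fin (m + 1)) F) : Matrix (Fin (m + 1)) (Fin (m + 1)) F) *ᵥ y) hc
        simp only [inv_mulVec_cancel] at h5
        refine hv (funext fun i => ?_)
        simpa [e0] using (congrFun h5 i.succ).symm
      · have h0 : (φ ᵥ* (g : Matrix (Fin (m + 1)) (Fin (m + 1)) F)) ⬝ᵥ e0 = 0 := by
          rw [← dotProduct_mulVec, hg, hφ]
        obtain ⟨a, ha⟩ := exists_cons h0
        have h5 := hvS a
        rw [mem_St_mk, inv_inv, ← ha, conj_T g h0, hg, vecMul_vecMul, ← Matrix.SpecialLinearGroup.coe_mul,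
          mul_inv_cancel, Matrix.SpecialLinearGroup.coe_one, vecMul_one] at h5
        rw [h5, dotProduct_mulVec, ha, cons_dot, zero_mul, zero_add]
    choose! u hu hTu using hu
    let L : (Fin (m + 1) → F) → Submodule F (Fin (m + 1) → F) := fun x => Submodule.span F {x, u x}
    have memL1 : ∀ x, x ∈ L x := fun x => Submodule.subset_span (by simp)
    have memL2 : ∀ x, u x ∈ L x := fun x => Submodule.subset_span (by simp)
    have hrk : ∀ {x y : Fin (m + 1) → F}, x ≠ 0 → y ∉ Submodule.span F {x} →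
        finrank F (Submodule.span F {x, y}) = 2 := by
      intro x y hx hy
      have hli : LinearIndependent F ![x, y] :=
        (LinearIndependent.pair_iff' hx).2 fun a ha => hy (Submodule.mem_span_singleton.2 ⟨a, ha⟩)
      have := finrank_span_eq_card hli
      rw [Matrix.range_cons, Matrix.range_cons, Matrix.range_empty, Set.union_empty, Set.singleton_union] at this
      simpa using this
    have hL : ∀ {x}, x ≠ 0 → finrank F (L x) = 2 := fun hx => hrk hx (hu _ hx)
    have hperp : ∀ {x φ}, φ ⬝ᵥ x = 0 → φ ⬝ᵥ u x = 0 → ∀ w ∈ L x, φ ⬝ᵥ w = 0 := by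
      intro x φ h1 h2 w hw
      obtain ⟨a, b, rfl⟩ := Submodule.mem_span_pair.1 hw
      simp [dotProduct_add, h1, h2]
    have scal : ∀ {x z}, x ≠ 0 → z ≠ 0 → z ∈ Submodule.span F {x} → L z = L x := by
      intro x z hx hz hzx
      obtain ⟨c, rfl⟩ := Submodule.mem_span_singleton.1 hzx
      have hc : c ≠ 0 := by rintro rfl; exact hz (zero_smul _ _)
      refine Submodule.eq_of_le_of_finrank_eq (Submodule.span_le.2 ?_) (by rw [hL hx, hL hz])
      rintro w (rfl | rfl)
      · exact Submodule.smul_mem _ _ (memL1 x)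
      · show u (c • x) ∈ L x
        by_contra hmem
        obtain ⟨φ, hφ, hφ1⟩ := Transvection.exists_functional hmem
        have hφx : φ ⬝ᵥ x = 0 := hφ _ (memL1 x)
        have hin : T x (c • φ) ∈ H := (hTu x hx _ (by simp [hφx])).2 (by simp [hφ _ (memL2 x)])
        rw [← T_smul hφx] at hin
        exact one_ne_zero (hφ1.symm.trans ((hTu _ hz φ (by simp [hφx])).1 hin))
    have cond : ∀ {x z}, x ≠ 0 → z ≠ 0 → x ∈ L z ∨ u z ∈ Submodule.span F {x, u x, z} := by
      intro x z hx hz
      by_contra hno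
      rw [not_or] at hno
      obtain ⟨ψ, hψ, hψ1⟩ := Transvection.exists_functional hno.1
      obtain ⟨φ, hφ, hφ1⟩ := Transvection.exists_functional hno.2
      have hφx : φ ⬝ᵥ x = 0 := hφ _ (Submodule.subset_span (by simp))
      have hφz : φ ⬝ᵥ z = 0 := hφ _ (Submodule.subset_span (by simp))
      have ht : T x φ ∈ H := (hTu x hx φ hφx).2 (hφ _ (Submodule.subset_span (by simp)))
      have hψz : ψ ⬝ᵥ z = 0 := hψ _ (memL1 z)
      have hs : T z ψ ∈ H := (hTu z hz ψ hψz).2 (hψ _ (memL2 z))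
      have h6 := mul_mem (mul_mem ht hs) (inv_mem ht)
      rw [conj_T _ hψz, T_mulVec hφx, hφz, zero_smul, add_zero, T_inv hφx,
        vecMul_T (by rw [neg_dotProduct, hφx, neg_zero]), hψ1, one_smul] at h6
      have h7 := (hTu z hz _ (by simp [hψz, hφz])).1 h6
      simp [hψ _ (memL2 z), hφ1] at h7
    have key : ∀ {x z}, x ≠ 0 → z ≠ 0 → z ∈ L x → L z = L x := by
      intro x z hx hz hzx
      by_cases hpar : z ∈ Submodule.span F {x}
      · exact scal hx hz hpar
      rcases cond hx hz with hxz | huz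
      · have e1 : Submodule.span F {x, z} = L x :=
          Submodule.eq_of_le_of_finrank_eq (Submodule.span_le.2 (by rintro w (rfl | rfl); exacts [memL1 _, hzx]))
            (by rw [hrk hx hpar, hL hx])
        have e2 : Submodule.span F {x, z} = L z :=
          Submodule.eq_of_le_of_finrank_eq (Submodule.span_le.2 (by rintro w (rfl | rfl); exacts [hxz, memL1 _]))
            (by rw [hrk hx hpar, hL hz])
        rw [← e2, e1]
      · refine Submodule.eq_of_le_of_finrank_eq (Submodule.span_le.2 ?_) (by rw [hL hx, hL hz])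
        rintro w (rfl | rfl)
        · exact hzx
        · refine (Submodule.span_le.2 ?_) huz
          rintro y (rfl | rfl | rfl)
          exacts [memL1 _, memL2 _, hzx]
    have hx : (e0 : Fin (m + 1) → F) ≠ 0 := e0_ne
    obtain ⟨z, hz⟩ : ∃ z, z ∉ L (e0 : Fin (m + 1) → F) := by
      by_contra hall
      simp only [not_exists, not_not] at hall
      have h8 := hL hx
      rw [Submodule.eq_top_iff'.2 hall, finrank_top, finrank_fin_fun] at h8
      omega
    have hz0 : z ≠ 0 := fun h0 => hz (h0 ▸ Submodule.zero_mem _)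
    rcases cond hx hz0 with hxz | huz
    · exact hz ((key hz0 hx hxz).symm ▸ memL1 z)
    · rw [show ({e0, u e0, z} : Set (Fin (m + 1) → F)) = {e0, u e0} ∪ {z} by
        ext; simp only [Set.mem_insert_iff, Set.mem_singleton_iff, Set.mem_union, or_assoc], Submodule.span_union, Submodule.mem_sup] at huz
      obtain ⟨y, hy, w, hw, hsum⟩ := huz
      obtain ⟨c, rfl⟩ := Submodule.mem_span_singleton.1 hw
      have hy0 : y ≠ 0 := fun h0 => hu z hz0 (by
        rw [← hsum, h0, zero_add]; exact Submodule.smul_mem _ _ (Submodule.mem_span_singleton_self z))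
      have hyz : y ∈ L z := by
        rw [eq_sub_of_add_eq hsum]
        exact Submodule.sub_mem _ (memL2 z) (Submodule.smul_mem _ _ (memL1 z))
      have e1 := key hx hy0 hy
      rw [key hz0 hy0 hyz] at e1
      exact hz (e1 ▸ memL1 z)

/-- The index of the stabiliser of a point of the projective space. -/
theorem exists_index_eq {n : ℕ} (hn : 3 ≤ n) :
    ∃ H : Subgroup (Matrix.ProjectiveSpecialLinearGroup (Fin n) F), H.index = Nat.card (ℙ F (Fin n → F)) := by
  haveI : Nontrivial (Fin n) := Fin.nontrivial_iff_two_le.mpr (by omega)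
  let p : ℙ F (Fin n → F) := Projectivization.mk F (Pi.single ⟨0, by omega⟩ 1)
    (by rw [Ne, Pi.single_eq_zero_iff]; exact one_ne_zero)
  exact ⟨MulAction.stabilizer _ p, MulAction.index_stabilizer_of_transitive _ p⟩

theorem min_index_PSL {n : ℕ} (hn : 3 ≤ n) (hexc : ¬ (n = 4 ∧ Fintype.card F = 2))
    (H : Subgroup (Matrix.ProjectiveSpecialLinearGroup (Fin n) F)) (hH : H ≠ ⊤) :
    Nat.card (ℙ F (Fin n → F)) ≤ H.index := by
  obtain ⟨m, rfl⟩ : ∃ m, n = m + 1 := ⟨n - 1, by omega⟩
  have hs : Function.Surjective (QuotientGroup.mk' (Subgroup.center (Matrix.SpecialLinearGroup (Fin (m + 1)) F))) :=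
    QuotientGroup.mk'_surjective _
  rw [← Subgroup.index_comap_of_surjective H hs]
  refine index_ge_or_top (by omega) (fun hh => hexc ⟨by omega, hh.2⟩) _ fun h => hH ?_
  rw [← Subgroup.map_comap_eq_self_of_surjective hs H, h, Subgroup.map_top_of_surjective _ hs]

end Cfsg.Agent.Lib.MinIndex
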