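import Cfsg.Agent.Lib.MinIndex.Basic

/-!
Orbits of the group of transvections with a fixed centre on the cosets of a subgroup of small index of `SL_n`.
-/

set_option autoImplicit false
set_option linter.unusedSectionVars false

namespace Cfsg.Agent.Lib.MinIndex

open Matrix
open scoped Pointwise

variable {F : Type*} [Field F] {m : ℕ}

local notation "SLm" => Matrix.SpecialLinearGroup (Fin (m + 1)) F

theorem cons_dot (x y : F) (a b : Fin m → F) :
    (Fin.cons x a : Fin (m + 1) → F) ⬝ᵥ Fin.cons y b = x * y + a ⬝ᵥ b := by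
  simp [dotProduct, Fin.sum_univ_succ]

/-- The first basis vector. -/
def e0 : Fin (m + 1) → F := Fin.cons 1 0

theorem e0_ne : (e0 : Fin (m + 1) → F) ≠ 0 := fun h => one_ne_zero (α := F) (congrFun h 0)

theorem ax_dot_e0 (a : Fin m → F) : (Fin.cons 0 a : Fin (m + 1) → F) ⬝ᵥ e0 = 0 := by
  simp [e0, cons_dot]

theorem cons_add (a b : Fin m → F) :
    (Fin.cons 0 a : Fin (m + 1) → F) + Fin.cons 0 b = Fin.cons 0 (a + b) := by
  funext i; refine Fin.cases ?_ (fun j => ?_) i <;> simp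

theorem cons_smul (c : F) (a : Fin m → F) :
    c • (Fin.cons 0 a : Fin (m + 1) → F) = Fin.cons 0 (c • a) := by
  funext i; refine Fin.cases ?_ (fun j => ?_) i <;> simp

theorem cons_neg (a : Fin m → F) : -(Fin.cons 0 a : Fin (m + 1) → F) = Fin.cons 0 (-a) := by
  funext i; refine Fin.cases ?_ (fun j => ?_) i <;> simp

theorem cons_zero : (Fin.cons 0 0 : Fin (m + 1) → F) = 0 := by
  funext i; refine Fin.cases ?_ (fun j => ?_) i <;> simp

/-- A functional killing `e0` is `(0, a)`. -/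
theorem exists_cons {f : Fin (m + 1) → F} (h : f ⬝ᵥ e0 = 0) : ∃ a, f = Fin.cons 0 a := by
  refine ⟨Fin.tail f, ?_⟩
  have h0 : f 0 = 0 := by simpa [e0, dotProduct, Fin.sum_univ_succ] using h
  conv_lhs => rw [← Fin.cons_self_tail f, h0]

/-- The transvections with centre `e0`. -/
noncomputable def E : Multiplicative (Fin m → F) →* SLm where
  toFun a := T e0 (Fin.cons 0 (Multiplicative.toAdd a))
  map_one' := by rw [toAdd_one, cons_zero, T_zero]
  map_mul' a b := by rw [T_add (ax_dot_e0 _) (ax_dot_e0 _), cons_add, toAdd_mul]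

variable (H : Subgroup (Matrix.SpecialLinearGroup (Fin (m + 1)) F))

/-- The stabiliser in `E` of a coset. -/
noncomputable def St (ω : SLm ⧸ H) : AddSubgroup (Fin m → F) where
  carrier := {a | E (Multiplicative.ofAdd a) • ω = ω}
  zero_mem' := by show E (Multiplicative.ofAdd (0 : Fin m → F)) • ω = ω; rw [ofAdd_zero, map_one, one_smul]
  add_mem' {a b} ha hb := by
    show E (Multiplicative.ofAdd (a + b)) • ω = ω
    rw [ofAdd_add, map_mul, mul_smul, show E (Multiplicative.ofAdd b) • ω = ω from hb]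
    exact ha
  neg_mem' {a} ha := by
    show E (Multiplicative.ofAdd (-a)) • ω = ω
    rw [ofAdd_neg, map_inv, inv_smul_eq_iff]
    exact (show E (Multiplicative.ofAdd a) • ω = ω from ha).symm

theorem mem_St {ω : SLm ⧸ H} {a : Fin m → F} : a ∈ St H ω ↔ E (Multiplicative.ofAdd a) • ω = ω := Iff.rfl

theorem mem_St_mk (g : SLm) (a : Fin m → F) :
    a ∈ St H (g : SLm ⧸ H) ↔ g⁻¹ * T e0 (Fin.cons 0 a) * g ∈ H := by
  rw [mem_St, eq_comm, MulAction.Quotient.smul_coe, QuotientGroup.eq, smul_eq_mul, ← mul_assoc]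
  rfl

theorem St_smul (g : Multiplicative (Fin m → F)) (ω : SLm ⧸ H) : St H (E g • ω) = St H ω := by
  ext a
  rw [mem_St, mem_St, ← mul_smul, ← map_mul, mul_comm, map_mul, mul_smul]
  exact smul_left_cancel_iff _

/-- The orbit of a coset. -/
def orb (ω : SLm ⧸ H) : Set (SLm ⧸ H) := Set.range fun a : Fin m → F => E (Multiplicative.ofAdd a) • ω

theorem card_orb_mul [Finite F] (ω : SLm ⧸ H) : (orb H ω).ncard * Nat.card (St H ω) = Nat.card F ^ m := by
  classical
  have hq : Nat.card ((Fin m → F) ⧸ St H ω) = (orb H ω).ncard := by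
    let f : (Fin m → F) ⧸ St H ω → orb H ω := fun q =>
      Quotient.liftOn' q (fun a => ⟨E (Multiplicative.ofAdd a) • ω, a, rfl⟩) fun a b hab => by
        rw [QuotientAddGroup.leftRel_apply, mem_St, ofAdd_add, map_mul, ofAdd_neg, map_inv, mul_smul,
          inv_smul_eq_iff] at hab
        exact Subtype.ext hab.symm
    have hf : Function.Bijective f := by
      constructor
      · intro q q'
        induction q using QuotientAddGroup.induction_on
        induction q' using QuotientAddGroup.induction_on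
        rename_i a b
        intro h
        have h' : E (Multiplicative.ofAdd a) • ω = E (Multiplicative.ofAdd b) • ω := congrArg Subtype.val h
        rw [QuotientAddGroup.eq, mem_St, ofAdd_add, map_mul, ofAdd_neg, map_inv, mul_smul, inv_smul_eq_iff]
        exact h'.symm
      · rintro ⟨_, a, rfl⟩
        exact ⟨QuotientAddGroup.mk a, rfl⟩
    rw [Nat.card_eq_of_bijective f hf, Nat.card_coe_set_eq]
  rw [← hq, ← AddSubgroup.card_eq_card_quotient_mul_card_addSubgroup, Nat.card_fun, Nat.card_fin]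

theorem mem_orb_self (ω : SLm ⧸ H) : ω ∈ orb H ω := ⟨0, by simp only [ofAdd_zero, map_one, one_smul]⟩

theorem St_eq_of_mem_orb {ω ω' : SLm ⧸ H} (h : ω' ∈ orb H ω) : St H ω' = St H ω := by
  obtain ⟨a, rfl⟩ := h
  exact St_smul H _ _

/-- The move of the `Fin m` coordinates by a transvection. -/
noncomputable def mv (w φ : Fin m → F) : SLm := T (Fin.cons 0 w) (Fin.cons 0 φ)

theorem mv_conj {w φ : Fin m → F} (h : φ ⬝ᵥ w = 0) (a : Fin m → F) :
    (mv w φ)⁻¹ * T e0 (Fin.cons 0 a) * mv w φ = T e0 (Fin.cons 0 (a + (a ⬝ᵥ w) • φ)) := by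
  have h' : (Fin.cons 0 φ : Fin (m + 1) → F) ⬝ᵥ Fin.cons 0 w = 0 := by simp [cons_dot, h]
  have h'' : (-(Fin.cons 0 φ : Fin (m + 1) → F)) ⬝ᵥ Fin.cons 0 w = 0 := by rw [neg_dotProduct, h', neg_zero]
  have := conj_T (mv w φ)⁻¹ (ax_dot_e0 a)
  rw [inv_inv] at this
  rw [this]
  congr 1
  · rw [mv, T_inv h', T_mulVec h'', neg_dotProduct, ax_dot_e0, neg_zero, zero_smul, add_zero]
  · rw [mv, vecMul_T h', cons_dot, zero_mul, zero_add, cons_smul, cons_add]

theorem mem_St_mv {w φ : Fin m → F} (h : φ ⬝ᵥ w = 0) (ω : SLm ⧸ H) (a : Fin m → F) :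
    a ∈ St H (mv w φ • ω) ↔ a + (a ⬝ᵥ w) • φ ∈ St H ω := by
  induction ω using QuotientGroup.induction_on
  rename_i g
  rw [MulAction.Quotient.smul_coe, mem_St_mk, mem_St_mk, smul_eq_mul, _root_.mul_inv_rev, ← mv_conj h]
  simp only [mul_assoc]

/-- The annihilator attached to a coset. -/
def A {K : Type*} [Field K] (ψ : AddChar F K) (ω : SLm ⧸ H) : Set (Fin m → F) := ann ψ (St H ω)

theorem mem_A_mv {K : Type*} [Field K] (ψ : AddChar F K) {w φ : Fin m → F} (h : φ ⬝ᵥ w = 0)
    (ω : SLm ⧸ H) {u : Fin m → F} (hu : u ∈ A H ψ ω) : u + (φ ⬝ᵥ u) • w ∈ A H ψ (mv w φ • ω) := by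
  intro a ha
  rw [mem_St_mv H h] at ha
  have := hu _ ha
  have hw : a ⬝ᵥ w = (a + (a ⬝ᵥ w) • φ) ⬝ᵥ w := by simp [add_dotProduct, h]
  rw [← this]
  congr 1
  simp [dotProduct_add, add_dotProduct]
  ring

/-- No coset is fixed by all transvections with centre `e0`. -/
def NoFix : Prop := ∀ ω : SLm ⧸ H, ∃ a, a ∉ St H ω

variable [Fintype F]

/-- The two possible orbit structures. -/
theorem dichotomy (hm : 2 ≤ m) (hfix : NoFix H) {M : ℕ} (hM : M * (Fintype.card F - 1) = Fintype.card F ^ m - 1)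
    (hd : H.index < Fintype.card F ^ m + M) :
    ((∀ ω : SLm ⧸ H, St H ω = ⊥) ∧ ∀ ω ω' : SLm ⧸ H, ω' ∈ orb H ω) ∨
    ((∀ ω : SLm ⧸ H, ∃ v : Fin m → F, v ≠ 0 ∧ ∀ a, a ∈ St H ω ↔ a ⬝ᵥ v = 0) ∧
      H.index + 1 = Fintype.card F ^ m + M) := by
  classical
  obtain ⟨K, _, _, ψ, hψ⟩ := exists_primitive F
  haveI : Fintype (SLm ⧸ H) := Fintype.ofFinite _
  set q := Fintype.card F
  have hq : 2 ≤ q := Fintype.one_lt_card
  have hqc : Nat.card F = q := Nat.card_eq_fintype_card
  have hcard : ∀ ω, Nat.card (St H ω) * (A H ψ ω).ncard = q ^ m := fun ω => card_mul_ann ψ hψ _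
  have hproper : ∀ ω, ∃ u ∈ A H ψ ω, u ≠ 0 := by
    intro ω
    by_contra hno
    simp only [not_exists, not_and, not_not] at hno
    have h1 : A H ψ ω = {0} := Set.eq_singleton_iff_unique_mem.2 ⟨zero_mem_ann ψ _, hno⟩
    have h2 := hcard ω
    rw [h1, Set.ncard_singleton, mul_one] at h2
    obtain ⟨a, ha⟩ := hfix ω
    refine ha ?_
    have htop : St H ω = ⊤ := AddSubgroup.eq_top_of_card_eq _ (by rw [h2, Nat.card_fun, Nat.card_fin, hqc])
    rw [htop]; trivial
  let B : (Fin m → F) → ℕ := fun u => ∑ ω : SLm ⧸ H, if u ∈ A H ψ ω then Nat.card (St H ω) else 0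
  have hStmv : ∀ (w φ : Fin m → F) (ω : SLm ⧸ H), φ ⬝ᵥ w = 0 → Nat.card (St H (mv w φ • ω)) = Nat.card (St H ω) := by
    intro w φ ω hw
    refine Nat.card_congr
      { toFun := fun a => ⟨_, (mem_St_mv H hw ω a).1 a.2⟩
        invFun := fun a => ⟨a.1 + (a.1 ⬝ᵥ (-w)) • φ, (mem_St_mv H hw ω _).2 (by
          convert a.2 using 1; simp [add_dotProduct, hw, add_assoc])⟩
        left_inv := fun a => Subtype.ext (by simp [add_dotProduct, hw])
        right_inv := fun a => Subtype.ext (by simp [add_dotProduct, hw]) }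
  have hBle : ∀ (w φ u : Fin m → F), φ ⬝ᵥ w = 0 → B u ≤ B (u + (φ ⬝ᵥ u) • w) := by
    intro w φ u hw
    show _ ≤ ∑ ω : SLm ⧸ H, _
    rw [← Equiv.sum_comp (MulAction.toPerm (mv w φ))]
    refine Finset.sum_le_sum fun ω _ => ?_
    by_cases hu : u ∈ A H ψ ω
    · rw [if_pos hu, MulAction.toPerm_apply, if_pos (mem_A_mv H ψ hw ω hu), hStmv w φ ω hw]
    · simp [hu]
  have hBc : ∀ u u', u ≠ 0 → u' ≠ 0 → B u = B u' := fun u u' hu hu' =>
    const_of_moves hm B (fun w φ x hw => by
      have h1 := hBle w φ x hw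
      have h2 := hBle w (-φ) (x + (φ ⬝ᵥ x) • w) (by rw [neg_dotProduct, hw, neg_zero])
      have e : x + (φ ⬝ᵥ x) • w + (- φ ⬝ᵥ (x + (φ ⬝ᵥ x) • w)) • w = x := by
        rw [add_assoc, ← add_smul]
        simp [dotProduct_add, hw]
      rw [e] at h2
      omega) hu hu'
  obtain ⟨u₀, hu₀A, hu₀⟩ := hproper (QuotientGroup.mk 1)
  have horbsum : ∀ ω, ∑ ω' ∈ (orb H ω).toFinset, Nat.card (St H ω') = q ^ m := by
    intro ω
    rw [Finset.sum_congr rfl fun ω' hω' => by rw [St_eq_of_mem_orb H (Set.mem_toFinset.1 hω')],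
      Finset.sum_const, smul_eq_mul, ← Set.ncard_eq_toFinset_card', card_orb_mul, hqc]
  have hAorb : ∀ ω ω', ω' ∈ orb H ω → A H ψ ω' = A H ψ ω := fun ω ω' hω => by
    show ann ψ _ = ann ψ _
    rw [St_eq_of_mem_orb H hω]
  have hBsub : ∀ (u : Fin m → F) (s : Finset (SLm ⧸ H)), (∀ ω ∈ s, u ∈ A H ψ ω) →
      ∑ ω ∈ s, Nat.card (St H ω) ≤ B u := fun u s hs =>
    le_trans (Finset.sum_le_sum fun ω hω => by rw [if_pos (hs ω hω)])
      (Finset.sum_le_sum_of_subset (Finset.subset_univ s))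
  have hmain : H.index * q ^ m = ∑ ω : SLm ⧸ H, Nat.card (St H ω) + (q ^ m - 1) * B u₀ := by
    have hdouble : ∑ u : Fin m → F, B u = H.index * q ^ m := by
      show ∑ u : Fin m → F, ∑ ω : SLm ⧸ H, _ = _
      rw [Finset.sum_comm, Subgroup.index, Nat.card_eq_fintype_card,
        Finset.sum_congr rfl (fun ω _ => show _ = q ^ m from ?_)]
      · simp
      · rw [← Finset.sum_filter, Finset.sum_const, smul_eq_mul, mul_comm, ← hcard ω, ← Set.ncard_coe_finset]
        congr 2
        ext; simp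
    have hB0 : B 0 = ∑ ω : SLm ⧸ H, Nat.card (St H ω) :=
      Finset.sum_congr rfl fun ω _ => if_pos (zero_mem_ann ψ _)
    rw [← hdouble, ← Finset.add_sum_erase _ B (Finset.mem_univ (0 : Fin m → F)), hB0,
      Finset.sum_congr rfl fun u hu => hBc u u₀ (Finset.ne_of_mem_erase hu) hu₀,
      Finset.sum_const, smul_eq_mul, Finset.card_erase_of_mem (Finset.mem_univ _), Finset.card_univ,
      Fintype.card_fun, Fintype.card_fin]
  have hBlow : q ^ m ≤ B u₀ := by
    rw [← horbsum (QuotientGroup.mk 1)]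
    exact hBsub _ _ fun ω hω => by rw [hAorb _ _ (Set.mem_toFinset.1 hω)]; exact hu₀A
  have hqm : q ≤ q ^ m := Nat.le_self_pow (by omega) q
  have hMle : M < q ^ m := by
    have : M ≤ M * (q - 1) := Nat.le_mul_of_pos_right _ (by omega)
    omega
  have hSlow : q ^ m ≤ ∑ ω : SLm ⧸ H, Nat.card (St H ω) := by
    rw [← horbsum (QuotientGroup.mk 1)]
    exact Finset.sum_le_sum_of_subset (Finset.subset_univ _)
  have hunique : ∀ ω ω' u, u ≠ 0 → u ∈ A H ψ ω → u ∈ A H ψ ω' → ω' ∈ orb H ω := by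
    intro ω ω' u hu h1 h2
    by_contra hn
    have hdisj : Disjoint (orb H ω).toFinset (orb H ω').toFinset := by
      rw [Finset.disjoint_left]
      intro x hx hx'
      rw [Set.mem_toFinset] at hx hx'
      obtain ⟨a, rfl⟩ := hx
      obtain ⟨b, hb⟩ := hx'
      refine hn ⟨-b + a, ?_⟩
      simp only at hb ⊢
      rw [ofAdd_add, map_mul, mul_smul, ← hb, ← mul_smul, ← map_mul, ← ofAdd_add, neg_add_cancel,
        ofAdd_zero, map_one, one_smul]
    have h2B : 2 * q ^ m ≤ B u₀ := by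
      rw [← hBc u u₀ hu hu₀, two_mul]
      rw [show q ^ m + q ^ m = ∑ x ∈ (orb H ω).toFinset, Nat.card (St H x) + ∑ x ∈ (orb H ω').toFinset, Nat.card (St H x) by
        rw [horbsum, horbsum]]
      rw [← Finset.sum_union hdisj]
      refine hBsub _ _ fun x hx => ?_
      rcases Finset.mem_union.1 hx with hx | hx <;> rw [Set.mem_toFinset] at hx <;> rw [hAorb _ _ hx] <;> assumption
    have h4 : q ^ m + (q ^ m - 1) * (2 * q ^ m) ≤ H.index * q ^ m := by
      rw [hmain]; exact add_le_add hSlow (Nat.mul_le_mul le_rfl h2B)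
    have h5 : q ^ m * (1 + 2 * (q ^ m - 1)) ≤ q ^ m * H.index :=
      calc q ^ m * (1 + 2 * (q ^ m - 1)) = q ^ m + (q ^ m - 1) * (2 * q ^ m) := by ring
        _ ≤ H.index * q ^ m := h4
        _ = q ^ m * H.index := mul_comm _ _
    have := Nat.le_of_mul_le_mul_left h5 (by omega)
    omega
  have hBeq : B u₀ = q ^ m := by
    refine le_antisymm ?_ hBlow
    refine le_of_le_of_eq (le_trans (le_of_eq ?_) (Finset.sum_le_sum_of_subset (f := fun ω => Nat.card (St H ω))
      (show (Finset.univ.filter fun ω : SLm ⧸ H => u₀ ∈ A H ψ ω) ⊆ (orb H (QuotientGroup.mk 1)).toFinset from ?_)))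
      (horbsum (QuotientGroup.mk 1))
    · rw [Finset.sum_filter]
    · intro ω hω
      rw [Finset.mem_filter] at hω
      exact Set.mem_toFinset.2 (hunique _ _ u₀ hu₀ hu₀A hω.2)
  have hinv : ∀ ω v, v ≠ 0 → v ∈ A H ψ ω → ∀ w φ : Fin m → F, φ ⬝ᵥ w = 0 → φ ⬝ᵥ v = 0 → ∀ x ∈ A H ψ ω,
      x + (φ ⬝ᵥ x) • w ∈ A H ψ ω := by
    intro ω v hv hvA w φ hw hφv x hx
    have h1 := mem_A_mv H ψ hw ω hvA
    have h2 := mem_A_mv H ψ hw ω hx
    rw [hφv, zero_smul, add_zero] at h1
    rwa [hAorb ω _ (hunique ω _ v hv hvA h1)] at h2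
  by_cases hbig : ∃ ω v u, v ≠ 0 ∧ v ∈ A H ψ ω ∧ u ∈ A H ψ ω ∧ u ∉ Submodule.span F {v}
  · left
    obtain ⟨ω, v, u, hv, hvA, huA, huv⟩ := hbig
    have hu : u ≠ 0 := fun h0 => huv (by rw [h0]; exact Submodule.zero_mem _)
    have hvu : v ∉ Submodule.span F {u} := by
      intro hmem
      obtain ⟨c, rfl⟩ := Submodule.mem_span_singleton.1 hmem
      have hc : c ≠ 0 := by rintro rfl; exact hv (zero_smul _ _)
      exact huv (Submodule.mem_span_singleton.2 ⟨c⁻¹, by rw [smul_smul, inv_mul_cancel₀ hc, one_smul]⟩)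
    obtain ⟨φ, hφ, hφu⟩ := Subspaces.Transvection.exists_functional huv
    obtain ⟨φ', hφ', hφ'v⟩ := Subspaces.Transvection.exists_functional hvu
    have hker : ∀ w, φ ⬝ᵥ w = 0 → w ∈ A H ψ ω := fun w hw => by
      have := hinv ω v hv hvA w φ hw (hφ _ (Submodule.mem_span_singleton_self _)) u huA
      rw [hφu, one_smul] at this
      show w ∈ ann ψ (St H ω)
      simpa using sub_mem_ann ψ this huA
    have hker' : ∀ w, φ' ⬝ᵥ w = 0 → w ∈ A H ψ ω := fun w hw => by
      have := hinv ω u hu huA w φ' hw (hφ' _ (Submodule.mem_span_singleton_self _)) v hvA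
      rw [hφ'v, one_smul] at this
      show w ∈ ann ψ (St H ω)
      simpa using sub_mem_ann ψ this hvA
    have hall : A H ψ ω = Set.univ := Set.eq_univ_of_forall fun x => by
      have h1 := hker (x - (φ ⬝ᵥ x) • u) (by simp [dotProduct_sub, hφu])
      have h2 := hker' ((φ ⬝ᵥ x) • u) (by simp [hφ' u (Submodule.mem_span_singleton_self _)])
      have h3 := add_mem_ann ψ h1 h2
      rwa [sub_add_cancel] at h3
    have hone : ∀ ω', ω' ∈ orb H ω := fun ω' => by
      obtain ⟨x, hx, hx0⟩ := hproper ω'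
      exact hunique ω ω' x hx0 (by rw [hall]; trivial) hx
    have hSt : St H ω = ⊥ := by
      have := hcard ω
      rw [hall, Set.ncard_univ, Nat.card_fun, Nat.card_fin, hqc] at this
      exact AddSubgroup.card_eq_one.1 ((Nat.mul_eq_right (by omega)).1 this)
    refine ⟨fun ω' => by rw [St_eq_of_mem_orb H (hone ω'), hSt], fun ω₁ ω₂ => ?_⟩
    obtain ⟨a, ha⟩ := hone ω₁
    obtain ⟨b, hb⟩ := hone ω₂
    refine ⟨b - a, ?_⟩
    simp only at ha hb ⊢
    rw [← ha, ← hb, ← mul_smul, ← map_mul, ← ofAdd_add, sub_add_cancel]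
  · right
    simp only [not_exists, not_and, not_not] at hbig
    have hle : ∀ ω, q ^ (m - 1) ≤ Nat.card (St H ω) ∧ ∃ v : Fin m → F, v ≠ 0 ∧
        A H ψ ω ⊆ Submodule.span F {v} := by
      intro ω
      obtain ⟨v, hvA, hv⟩ := hproper ω
      have hsub : A H ψ ω ⊆ (Submodule.span F {v} : Set (Fin m → F)) := fun u hu => hbig ω v u hv hvA hu
      refine ⟨?_, v, hv, hsub⟩
      have h1 : (A H ψ ω).ncard ≤ q := by
        refine (Set.ncard_le_ncard hsub (Set.toFinite _)).trans ?_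
        rw [← Nat.card_coe_set_eq]
        show Nat.card (Submodule.span F {v}) ≤ q
        rw [Module.natCard_eq_pow_finrank (K := F), finrank_span_singleton hv, pow_one, hqc]
      have h2 := hcard ω
      have h3 : q ^ (m - 1) * q ≤ Nat.card (St H ω) * q := by
        rw [← pow_succ, Nat.sub_add_cancel (by omega), ← h2]
        exact Nat.mul_le_mul le_rfl h1
      exact Nat.le_of_mul_le_mul_right h3 (by omega)
    rw [hBeq] at hmain
    have hS1 : H.index * q ^ (m - 1) ≤ ∑ ω : SLm ⧸ H, Nat.card (St H ω) := by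
      rw [Subgroup.index, Nat.card_eq_fintype_card, ← smul_eq_mul, ← Finset.card_univ, ← Finset.sum_const]
      exact Finset.sum_le_sum fun ω _ => (hle ω).1
    have hpow : q ^ m = q ^ (m - 1) * q := by rw [← pow_succ, Nat.sub_add_cancel (by omega)]
    obtain ⟨a, hd', hSa⟩ : ∃ a, H.index = a + (q ^ m - 1) ∧ ∑ ω : SLm ⧸ H, Nat.card (St H ω) = a * q ^ m := by
      refine ⟨H.index - (q ^ m - 1), ?_, ?_⟩
      · have h1 : (q ^ m - 1) * q ^ m ≤ H.index * q ^ m := by omega
        have := Nat.le_of_mul_le_mul_right h1 (by omega)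
        omega
      · rw [Nat.sub_mul]; omega
    have haM : a ≤ M := by omega
    have hMa : M ≤ a := by
      rw [hSa, hd', hpow, ← hpow] at hS1
      nth_rw 2 [hpow] at hS1
      have h3 : q ^ (m - 1) * (a + (q ^ m - 1)) ≤ q ^ (m - 1) * (a * q) := by
        calc q ^ (m - 1) * (a + (q ^ m - 1)) = (a + (q ^ m - 1)) * q ^ (m - 1) := mul_comm _ _
          _ ≤ a * (q ^ (m - 1) * q) := hS1
          _ = q ^ (m - 1) * (a * q) := by ring
      have h4 := Nat.le_of_mul_le_mul_left h3 (by positivity)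
      by_contra hlt
      have h5 : (a + 1) * (q - 1) ≤ M * (q - 1) := Nat.mul_le_mul (by omega) le_rfl
      rw [Nat.add_mul, one_mul, hM, Nat.mul_sub_one] at h5
      have : a ≤ a * q := Nat.le_mul_of_pos_right _ (by omega)
      omega
    have heq : ∀ ω, Nat.card (St H ω) = q ^ (m - 1) := by
      have hsum : ∑ ω : SLm ⧸ H, Nat.card (St H ω) = ∑ _ω : SLm ⧸ H, q ^ (m - 1) := by
        rw [Finset.sum_const, Finset.card_univ, smul_eq_mul, hSa, ← Nat.card_eq_fintype_card, ← Subgroup.index, hd',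
          le_antisymm haM hMa, hpow, ← mul_assoc, mul_comm (M + _) _, mul_comm M, mul_assoc]
        congr 1
        rw [← hpow]
        have : M * q = M + M * (q - 1) := by
          have : M ≤ M * q := Nat.le_mul_of_pos_right _ (by omega)
          rw [Nat.mul_sub_one]; omega
        rw [this, hM]
      intro ω
      exact ((Finset.sum_eq_sum_iff_of_le fun ω _ => (hle ω).1).1 hsum.symm ω (Finset.mem_univ _)).symm
    refine ⟨fun ω => ?_, by omega⟩
    obtain ⟨-, v, hv, hsub⟩ := hle ω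
    refine ⟨v, hv, fun a => ?_⟩
    have hAeq : A H ψ ω = (Submodule.span F {v} : Set (Fin m → F)) := by
      refine Set.eq_of_subset_of_ncard_le hsub ?_ (Set.toFinite _)
      have h2 := hcard ω
      rw [heq, hpow] at h2
      rw [Nat.eq_of_mul_eq_mul_left (show 0 < q ^ (m - 1) by positivity) h2, ← Nat.card_coe_set_eq]
      show Nat.card (Submodule.span F {v}) ≤ q
      rw [Module.natCard_eq_pow_finrank (K := F), finrank_span_singleton hv, pow_one, hqc]
    have hmem : ∀ b ∈ St H ω, b ⬝ᵥ v = 0 := by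
      intro b hb
      by_contra hbv
      refine hψ hbv (DFunLike.ext _ _ fun t => ?_)
      have ht : t • v ∈ A H ψ ω := by rw [hAeq]; exact Submodule.smul_mem _ _ (Submodule.mem_span_singleton_self v)
      simpa [AddChar.mulShift_apply, mul_comm] using ht b hb
    refine ⟨hmem a, fun ha => ?_⟩
    let P : AddSubgroup (Fin m → F) :=
      { carrier := {b | b ⬝ᵥ v = 0}
        zero_mem' := zero_dotProduct v
        add_mem' := fun {x y} hx hy => by
          show (x + y) ⬝ᵥ v = 0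
          rw [add_dotProduct, show x ⬝ᵥ v = 0 from hx, show y ⬝ᵥ v = 0 from hy, add_zero]
        neg_mem' := fun {x} hx => by
          show -x ⬝ᵥ v = 0
          rw [neg_dotProduct, show x ⬝ᵥ v = 0 from hx, neg_zero] }
    have hP : (P : Set (Fin m → F)).ncard ≤ q ^ (m - 1) := by
      have h2 := card_mul_ann ψ hψ P
      have h3 : (Submodule.span F {v} : Set (Fin m → F)) ⊆ ann ψ P := by
        intro x hx b hb
        obtain ⟨c, rfl⟩ := Submodule.mem_span_singleton.1 hx
        rw [dotProduct_smul, show b ⬝ᵥ v = 0 from hb, smul_zero, AddChar.map_zero_eq_one]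
      have h4 : q ≤ (ann ψ P).ncard := by
        refine le_trans (le_of_eq ?_) (Set.ncard_le_ncard h3 (Set.toFinite _))
        rw [← Nat.card_coe_set_eq]
        show q = Nat.card (Submodule.span F {v})
        rw [Module.natCard_eq_pow_finrank (K := F), finrank_span_singleton hv, pow_one, hqc]
      rw [show (P : Set (Fin m → F)).ncard = Nat.card P from (Nat.card_coe_set_eq _).symm]
      have h5 : Nat.card P * q ≤ q ^ (m - 1) * q := by
        rw [← hpow, ← h2]
        exact Nat.mul_le_mul le_rfl h4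
      exact Nat.le_of_mul_le_mul_right h5 (by omega)
    have hPS : (St H ω : Set (Fin m → F)) = (P : Set (Fin m → F)) :=
      Set.eq_of_subset_of_ncard_le hmem (by rw [← Nat.card_coe_set_eq (St H ω : Set (Fin m → F))]; exact hP.trans (heq ω).ge)
        (Set.toFinite _)
    show a ∈ (St H ω : Set (Fin m → F))
    rw [hPS]; exact ha

end Cfsg.Agent.Lib.MinIndex
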