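import Cfsg.Agent.Lib.MinIndex.Orbits

/-!
A subgroup of `SL_{k+2}(F)` without transvections is not transitive-regular against the transvections
with a fixed centre.
-/

set_option autoImplicit false
set_option linter.unusedSectionVars false

namespace Cfsg.Agent.Lib.MinIndex

open Matrix

variable {F : Type*} [Field F] {k : ℕ}

/-- A column vector in the middle coordinates. -/
def colB (b : Fin k → F) : Fin (k + 1 + 1) → F := Fin.cons 0 (Fin.snoc b 0)

/-- A row vector in the middle and last coordinates. -/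
def rowA (a : Fin k → F) (c : F) : Fin (k + 1 + 1) → F := Fin.cons 0 (Fin.snoc a c)

/-- The last coordinate functional. -/
def eL : Fin (k + 1 + 1) → F := rowA 0 1

theorem snoc_dot (a b : Fin k → F) (c d : F) :
    (Fin.snoc a c : Fin (k + 1) → F) ⬝ᵥ Fin.snoc b d = a ⬝ᵥ b + c * d := by
  simp [dotProduct, Fin.sum_univ_castSucc]

theorem rowA_colB (a b : Fin k → F) (c : F) : rowA a c ⬝ᵥ colB b = a ⬝ᵥ b := by
  simp [rowA, colB, cons_dot, snoc_dot]

theorem eL_colB (b : Fin k → F) : (eL : Fin (k + 1 + 1) → F) ⬝ᵥ colB b = 0 := by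
  simp [eL, rowA_colB]

theorem rowA_e0 (a : Fin k → F) (c : F) : rowA a c ⬝ᵥ e0 = 0 := ax_dot_e0 _

theorem rowA_add (a a' : Fin k → F) (c c' : F) : rowA a c + rowA a' c' = rowA (a + a') (c + c') := by
  simp only [rowA, cons_add]
  congr 1
  funext i; refine Fin.lastCases ?_ (fun j => ?_) i <;> simp

theorem rowA_smul (x : F) (a : Fin k → F) (c : F) : x • rowA a c = rowA (x • a) (x * c) := by
  simp only [rowA, cons_smul]
  congr 1
  funext i; refine Fin.lastCases ?_ (fun j => ?_) i <;> simp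

theorem rowA_neg (a : Fin k → F) (c : F) : -rowA a c = rowA (-a) (-c) := by
  rw [← neg_one_smul F (rowA a c), rowA_smul]; simp

theorem colB_eq (b : Fin k → F) : colB b = rowA b 0 := rfl

theorem rowA_zero : rowA (0 : Fin k → F) 0 = 0 := by
  rw [← zero_smul F (rowA (0 : Fin k → F) 0), rowA_smul]; simp

theorem rowA_inj {a a' : Fin k → F} {c c' : F} (h : rowA a c = rowA a' c') : a = a' ∧ c = c' := by
  have h1 : (Fin.snoc a c : Fin (k + 1) → F) = Fin.snoc a' c' := by
    funext i; simpa [rowA] using congrFun h i.succ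
  exact ⟨funext fun i => by simpa using congrFun h1 i.castSucc, by simpa using congrFun h1 (Fin.last k)⟩

/-- The elements of the Heisenberg group `Q`. -/
noncomputable def qe (a b : Fin k → F) (c : F) : Matrix.SpecialLinearGroup (Fin (k + 1 + 1)) F :=
  T e0 (rowA a c) * T (colB b) eL

theorem qe_mul (a b a' b' : Fin k → F) (c c' : F) :
    qe a b c * qe a' b' c' = qe (a + a') (b + b') (c + c' - a' ⬝ᵥ b) := by
  have key : T (colB b) eL * T e0 (rowA a' c') = T e0 (rowA a' (c' - a' ⬝ᵥ b)) * T (colB b) eL := by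
    have h := conj_T (T (colB b) eL) (rowA_e0 a' c')
    rw [T_inv (eL_colB b), T_mulVec (eL_colB b), vecMul_T (by rw [neg_dotProduct, eL_colB, neg_zero])] at h
    rw [show (eL : Fin (k + 1 + 1) → F) ⬝ᵥ e0 = 0 from rowA_e0 _ _, zero_smul, add_zero, rowA_colB,
      eL, rowA_neg, rowA_smul, rowA_add] at h
    simp only [neg_zero, smul_zero, add_zero, mul_neg, mul_one, ← sub_eq_add_neg] at h
    rw [show T (colB b) (rowA (0 : Fin k → F) (-1)) = (T (colB b) eL)⁻¹ by
      rw [T_inv (eL_colB b), eL, rowA_neg, neg_zero]] at h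
    exact mul_inv_eq_iff_eq_mul.1 h
  unfold qe
  rw [show T e0 (rowA a c) * T (colB b) eL * (T e0 (rowA a' c') * T (colB b') eL) =
    T e0 (rowA a c) * (T (colB b) eL * T e0 (rowA a' c')) * T (colB b') eL by group, key,
    ← mul_assoc, T_add (rowA_e0 _ _) (rowA_e0 _ _), rowA_add, mul_assoc, T_mul_axis (eL_colB _) (eL_colB _),
    colB_eq b, colB_eq b', rowA_add, add_zero, ← colB_eq, add_sub_assoc]

theorem qe_zero : qe (0 : Fin k → F) 0 0 = 1 := by
  rw [qe, rowA_zero, T_zero, one_mul, colB_eq, rowA_zero]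
  apply Matrix.SpecialLinearGroup.toGL_injective
  rw [map_one, toGL_T, Cfsg.Agent.Lib.Subspaces.Transvection.tv_zero_left]

variable (H : Subgroup (Matrix.SpecialLinearGroup (Fin (k + 1 + 1)) F))

/-- The middle parts of the elements of `H ∩ Q`. -/
def Rel (a b : Fin k → F) : Prop := ∃ c, qe a b c ∈ H

/-- `H` is transitive-regular against the transvections with centre `e0` and contains no transvection. -/
structure IsRegular : Prop where
  noT : ∀ v φ : Fin (k + 1 + 1) → F, v ≠ 0 → φ ⬝ᵥ v = 0 → T v φ ∈ H → φ = 0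
  trans : ∀ g, ∃ a : Fin (k + 1) → F, (T e0 (Fin.cons 0 a))⁻¹ * g ∈ H

variable {H}

namespace IsRegular

variable (hR : IsRegular H)
include hR

theorem left {a : Fin k → F} (h : Rel H a 0) : a = 0 := by
  obtain ⟨c, hc⟩ := h
  rw [qe, colB_eq, rowA_zero] at hc
  have : T (0 : Fin (k + 1 + 1) → F) eL = 1 := by
    apply Matrix.SpecialLinearGroup.toGL_injective
    rw [map_one, toGL_T, Cfsg.Agent.Lib.Subspaces.Transvection.tv_zero_left]
  rw [this, mul_one] at hc
  have := hR.noT _ _ e0_ne (rowA_e0 a c) hc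
  rw [← rowA_zero] at this
  exact (rowA_inj this).1

theorem right {b : Fin k → F} (h : Rel H 0 b) : b = 0 := by
  obtain ⟨c, hc⟩ := h
  have he : (eL : Fin (k + 1 + 1) → F) ⬝ᵥ e0 = 0 := rowA_e0 _ _
  rw [qe, show rowA (0 : Fin k → F) c = c • eL by rw [eL, rowA_smul]; simp, ← T_smul he,
    T_mul_axis (by rw [dotProduct_smul, he, smul_zero]) (eL_colB _)] at hc
  by_contra hb
  have hv : c • (e0 : Fin (k + 1 + 1) → F) + colB b ≠ 0 := by
    intro h0
    have h1 := congrFun h0 0
    simp [e0, colB] at h1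
    rw [h1, zero_smul, zero_add, colB_eq, ← rowA_zero] at h0
    exact hb (rowA_inj h0).1
  have h2 := hR.noT _ _ hv (by rw [dotProduct_add, dotProduct_smul, he, eL_colB, smul_zero, add_zero]) hc
  rw [eL, ← rowA_zero] at h2
  exact one_ne_zero (rowA_inj h2).2

theorem exists_rel (b : Fin k → F) : ∃ a, Rel H a b := by
  obtain ⟨s, hs⟩ := hR.trans (T (colB b) eL)
  refine ⟨fun i => -s i.castSucc, -s (Fin.last k), ?_⟩
  rw [T_inv (ax_dot_e0 _), cons_neg] at hs
  have e : (-s : Fin (k + 1) → F) = Fin.snoc (fun i => -s i.castSucc) (-s (Fin.last k)) := by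
    funext i; refine Fin.lastCases ?_ (fun j => ?_) i <;> simp
  rw [e] at hs
  exact hs

theorem add {a b a' b' : Fin k → F} (h : Rel H a b) (h' : Rel H a' b') : Rel H (a + a') (b + b') := by
  obtain ⟨c, hc⟩ := h
  obtain ⟨c', hc'⟩ := h'
  exact ⟨_, qe_mul a b a' b' c c' ▸ mul_mem hc hc'⟩

theorem neg {a b : Fin k → F} (h : Rel H a b) : Rel H (-a) (-b) := by
  obtain ⟨c, hc⟩ := h
  refine ⟨-c - a ⬝ᵥ b, ?_⟩
  have hm : qe a b c * qe (-a) (-b) (-c - a ⬝ᵥ b) = 1 := by
    rw [qe_mul, add_neg_cancel, add_neg_cancel, neg_dotProduct]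
    convert qe_zero using 2
    ring
  rw [← inv_eq_of_mul_eq_one_right hm]
  exact inv_mem hc

theorem unique {a a' b : Fin k → F} (h : Rel H a b) (h' : Rel H a' b) : a = a' := by
  have h2 := hR.add h (hR.neg h')
  rw [add_neg_cancel] at h2
  exact eq_of_sub_eq_zero (by rw [sub_eq_add_neg]; exact hR.left h2)

theorem center {c : F} (h : qe (0 : Fin k → F) 0 c ∈ H) : c = 0 := by
  rw [qe, colB_eq, rowA_zero] at h
  have : T (0 : Fin (k + 1 + 1) → F) eL = 1 := by
    apply Matrix.SpecialLinearGroup.toGL_injective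
    rw [map_one, toGL_T, Cfsg.Agent.Lib.Subspaces.Transvection.tv_zero_left]
  rw [this, mul_one] at h
  have := hR.noT _ _ e0_ne (rowA_e0 _ c) h
  rw [← rowA_zero] at this
  exact (rowA_inj this).2

theorem symm {a b a' b' : Fin k → F} (h : Rel H a b) (h' : Rel H a' b') : a ⬝ᵥ b' = a' ⬝ᵥ b := by
  obtain ⟨c, hc⟩ := h
  obtain ⟨c', hc'⟩ := h'
  have h1 := mul_mem hc hc'
  have h2 := mul_mem hc' hc
  rw [qe_mul] at h1 h2
  rw [add_comm a' a, add_comm b' b] at h2
  have h3 : qe (0 : Fin k → F) 0 (a ⬝ᵥ b' - a' ⬝ᵥ b) * qe (a + a') (b + b') (c' + c - a ⬝ᵥ b') =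
      qe (a + a') (b + b') (c + c' - a' ⬝ᵥ b) := by
    rw [qe_mul, zero_add, zero_add, dotProduct_zero]
    congr 1
    ring
  have h4 := mul_mem (h3 ▸ h1) (inv_mem h2)
  rw [mul_inv_cancel_right] at h4
  exact sub_eq_zero.1 (hR.center h4)

theorem dot_eq_zero_of_two (h2 : (2 : F) = 0) {a b : Fin k → F} (h : Rel H a b) : a ⬝ᵥ b = 0 := by
  obtain ⟨c, hc⟩ := h
  have h1 := mul_mem hc hc
  have haa : ∀ x : Fin k → F, x + x = 0 := fun x => funext fun i => by
    simp only [Pi.add_apply, Pi.zero_apply]; linear_combination x i * h2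
  rw [qe_mul, haa, haa] at h1
  have := hR.center h1
  linear_combination c * h2 - this

/-- Conjugation invariance. -/
theorem conj {a b a' b' : Fin k → F} (g : Matrix.SpecialLinearGroup (Fin (k + 1 + 1)) F)
    (hg : ∀ c, ∃ c', g * qe a b c * g⁻¹ = qe a' b' c') (h : Rel H a b) : Rel H a' b' := by
  obtain ⟨c, hc⟩ := h
  obtain ⟨c', hc'⟩ := hg c
  obtain ⟨s, hs⟩ := hR.trans g
  have hT : T e0 (Fin.cons 0 s) = qe (fun i => s i.castSucc) 0 (s (Fin.last k)) := by
    rw [qe, colB_eq, rowA_zero,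
      show T (0 : Fin (k + 1 + 1) → F) eL = 1 from Matrix.SpecialLinearGroup.toGL_injective (by
        rw [map_one, toGL_T, Cfsg.Agent.Lib.Subspaces.Transvection.tv_zero_left]), mul_one, rowA]
    congr 2
    funext i; refine Fin.lastCases ?_ (fun j => ?_) i <;> simp
  have h1 := mul_mem (mul_mem hs hc) (inv_mem hs)
  rw [show (T e0 (Fin.cons 0 s))⁻¹ * g * qe a b c * ((T e0 (Fin.cons 0 s))⁻¹ * g)⁻¹ =
    (T e0 (Fin.cons 0 s))⁻¹ * (g * qe a b c * g⁻¹) * T e0 (Fin.cons 0 s) by group, hc', hT] at h1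
  set s' : Fin k → F := fun i => s i.castSucc
  refine ⟨c' - s' ⬝ᵥ b', ?_⟩
  have h3 : qe a' b' c' * qe s' 0 (s (Fin.last k)) = qe s' 0 (s (Fin.last k)) * qe a' b' (c' - s' ⬝ᵥ b') := by
    rw [qe_mul, qe_mul, add_comm s' a', add_zero, zero_add, dotProduct_zero]
    congr 1
    ring
  rwa [mul_assoc, h3, inv_mul_cancel_left] at h1

theorem conj_T_mid {a b x f : Fin k → F} (hfx : f ⬝ᵥ x = 0) (h : Rel H a b) :
    Rel H (a - (a ⬝ᵥ x) • f) (b + (f ⬝ᵥ b) • x) := by
  have hwf : rowA f 0 ⬝ᵥ colB x = 0 := by rw [rowA_colB, hfx]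
  refine hR.conj (T (colB x) (rowA f 0)) (fun c => ⟨c, ?_⟩) h
  set g := T (colB x) (rowA f 0)
  have hginv : g⁻¹ = T (colB x) (-rowA f 0) := T_inv hwf
  have e : g * qe a b c * g⁻¹ = (g * T e0 (rowA a c) * g⁻¹) * (g * T (colB b) eL * g⁻¹) := by
    unfold qe; group
  rw [e, conj_T g (rowA_e0 a c), conj_T g (eL_colB b), hginv, T_mulVec hwf, T_mulVec hwf,
    vecMul_T (by rw [neg_dotProduct, hwf, neg_zero]), vecMul_T (by rw [neg_dotProduct, hwf, neg_zero]),
    rowA_colB, eL_colB, rowA_colB, rowA_neg, rowA_smul, rowA_smul,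
    show rowA f 0 ⬝ᵥ e0 = 0 from rowA_e0 _ _, zero_smul, add_zero, colB_eq b, colB_eq x, rowA_smul, rowA_add,
    rowA_add]
  simp only [zero_smul, rowA_zero, add_zero, mul_zero, neg_zero, smul_neg, ← sub_eq_add_neg, zero_mul]
  rfl

/-- A diagonal element of `SL`. -/
def diagElt (x y : F) (g : Fin k → F) (hdet : x * (∏ i, g i) * y = 1) :
    Matrix.SpecialLinearGroup (Fin (k + 1 + 1)) F :=
  ⟨Matrix.diagonal (Fin.cons x (Fin.snoc g y)), by
    rw [det_diagonal, Fin.prod_univ_succ, Fin.prod_univ_castSucc]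
    simpa [mul_assoc] using hdet⟩

theorem conj_diag {a b : Fin k → F} (x y : F) (g : Fin k → F) (hdet : x * (∏ i, g i) * y = 1)
    (h : Rel H a b) : Rel H (fun i => x * a i / g i) (fun i => g i * b i / y) := by
  have hne := hdet ▸ (one_ne_zero : (1 : F) ≠ 0)
  have hy : y ≠ 0 := right_ne_zero_of_mul hne
  have hg : ∀ i, g i ≠ 0 := fun i hi => by
    refine hne ?_
    rw [Finset.prod_eq_zero (Finset.mem_univ i) hi, mul_zero, zero_mul]
  refine hR.conj (diagElt x y g hdet) (fun c => ⟨x * c / y, ?_⟩) h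
  set D := diagElt x y g hdet
  set d : Fin (k + 1 + 1) → F := Fin.cons x (Fin.snoc g y)
  have hvec : ∀ v : Fin (k + 1 + 1) → F, (D : Matrix _ _ F) *ᵥ v = fun i => d i * v i := fun v =>
    funext fun i => mulVec_diagonal d v i
  have hd : ∀ i, d i ≠ 0 := by
    intro i; refine Fin.cases ?_ (fun j => ?_) i
    · simpa [d] using left_ne_zero_of_mul (left_ne_zero_of_mul hne)
    · refine Fin.lastCases ?_ (fun l => ?_) j <;> simp [d, hy, hg]
  have hrow : ∀ v : Fin (k + 1 + 1) → F,
      v ᵥ* ((D⁻¹ : Matrix.SpecialLinearGroup (Fin (k + 1 + 1)) F) : Matrix _ _ F) = fun i => v i / d i := by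
    intro v
    have h1 : (fun i => v i / d i) ᵥ* (D : Matrix _ _ F) = v := funext fun i => by
      show (_ ᵥ* Matrix.diagonal d) i = _
      rw [vecMul_diagonal, div_mul_cancel₀ _ (hd i)]
    conv_lhs => rw [← h1, vecMul_vecMul, ← Matrix.SpecialLinearGroup.coe_mul, mul_inv_cancel,
      Matrix.SpecialLinearGroup.coe_one, vecMul_one]
  have e : D * qe a b c * D⁻¹ = (D * T e0 (rowA a c) * D⁻¹) * (D * T (colB b) eL * D⁻¹) := by
    unfold qe; group
  have e1 : (fun i => d i * (e0 : Fin (k + 1 + 1) → F) i) = x • e0 := by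
    funext i; refine Fin.cases ?_ (fun j => ?_) i <;> simp [d, e0]
  have e2 : (fun i => rowA a c i / d i) = rowA (fun i => a i / g i) (c / y) := by
    funext i
    refine Fin.cases ?_ (fun j => ?_) i
    · simp [rowA]
    · refine Fin.lastCases ?_ (fun l => ?_) j <;> simp [d, rowA]
  have e3 : (fun i => d i * colB b i) = y • colB (fun i => g i * b i / y) := by
    funext i
    refine Fin.cases ?_ (fun j => ?_) i
    · simp [colB]
    · refine Fin.lastCases ?_ (fun l => ?_) j <;> simp [d, colB, mul_div_cancel₀ _ hy]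
  have e4 : (fun i => (eL : Fin (k + 1 + 1) → F) i / d i) = y⁻¹ • eL := by
    funext i
    refine Fin.cases ?_ (fun j => ?_) i
    · simp [eL, rowA]
    · refine Fin.lastCases ?_ (fun l => ?_) j <;> simp [d, eL, rowA]
  rw [e, conj_T D (rowA_e0 a c), conj_T D (eL_colB b), hvec, hvec, hrow, hrow, e1, e2, e3, e4,
    T_smul (rowA_e0 _ _), T_smul (by rw [smul_dotProduct, eL_colB, smul_zero]), smul_smul,
    mul_inv_cancel₀ hy, one_smul, rowA_smul]
  unfold qe
  congr 3
  · funext i; simp [mul_div_assoc]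
  · rw [mul_div_assoc]

/-- No such subgroup exists, apart from the exceptional case. -/
theorem false_of_regular [Fintype F] (hk : 1 ≤ k) (hexc : ¬ (k = 2 ∧ Fintype.card F = 2)) : False := by
  classical
  obtain h1 | h2 | h3 : k = 1 ∨ k = 2 ∨ 3 ≤ k := by omega
  · subst h1
    obtain ⟨a, ha⟩ := hR.exists_rel (fun _ => (1 : F))
    have ha0 : a 0 ≠ 0 := fun h0 => by
      have : a = 0 := funext fun i => by rw [Subsingleton.elim i 0, h0]; rfl
      rw [this] at ha
      exact one_ne_zero (congrFun (hR.right ha) 0)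
    by_cases h2 : (2 : F) = 0
    · have := hR.dot_eq_zero_of_two h2 ha
      simp [dotProduct] at this
      exact ha0 this
    · have h3 := hR.conj_diag 1 (-1) (fun _ => (-1 : F)) (by simp) ha
      have h4 := congrFun (hR.unique ha (a' := fun i => 1 * a i / -1) (by simpa using h3)) 0
      simp only [one_mul, div_neg, div_one] at h4
      exact ha0 ((mul_eq_zero.1 (show (2 : F) * a 0 = 0 by linear_combination h4)).resolve_left h2)
  all_goals
    have hline : ∀ x a : Fin k → F, Rel H a x → ∀ f : Fin k → F, f ≠ 0 → f ⬝ᵥ x = 0 → ∃ c : F, a = c • f := by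
      intro x a ha f hf hfx
      obtain ⟨i, hi⟩ := Function.ne_iff.1 hf
      simp only [Pi.zero_apply] at hi
      obtain ⟨b, hb⟩ : ∃ b : Fin k → F, f ⬝ᵥ b = 1 :=
        ⟨Pi.single i (f i)⁻¹, by rw [dotProduct_single, mul_inv_cancel₀ hi]⟩
      obtain ⟨a', ha'⟩ := hR.exists_rel b
      have h1 := hR.add (hR.conj_T_mid hfx ha') (hR.neg ha')
      rw [hb, one_smul, add_comm b x, add_neg_cancel_right] at h1
      exact ⟨-(a' ⬝ᵥ x), by rw [hR.unique ha h1, neg_smul]; abel⟩
  · subst h2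
    have halt : ∀ x a : Fin 2 → F, Rel H a x → a ⬝ᵥ x = 0 := by
      intro x a ha
      by_cases hx : x = 0
      · rw [hx, dotProduct_zero]
      let f : Fin 2 → F := ![x 1, -x 0]
      have hf : f ≠ 0 := fun h0 => hx (by
        funext i; fin_cases i
        · simpa [f] using congrFun h0 1
        · simpa [f] using congrFun h0 0)
      obtain ⟨c, rfl⟩ := hline x a ha f hf (by simp [f, dotProduct, Fin.sum_univ_two]; ring)
      simp [f, dotProduct, Fin.sum_univ_two]; ring
    obtain ⟨a, ha⟩ := hR.exists_rel ![(1 : F), 0]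
    have ha0 : a ≠ 0 := by
      rintro rfl
      simpa using congrFun (hR.right ha) 0
    have hA0 : a 0 = 0 := by simpa [dotProduct, Fin.sum_univ_two] using halt _ _ ha
    by_cases h2 : (2 : F) = 0
    · haveI : CharP F 2 := CharTwo.of_one_ne_zero_of_two_eq_zero one_ne_zero h2
      obtain ⟨l, hl0, hl⟩ : ∃ l : F, l ≠ 0 ∧ l ≠ 1 := by
        by_contra hall
        simp only [not_exists, not_and, not_not] at hall
        refine hexc ⟨rfl, le_antisymm ?_ Fintype.one_lt_card⟩
        rw [← Finset.card_univ]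
        refine le_trans (Finset.card_le_card (t := {0, 1}) fun z _ => ?_) Finset.card_le_two
        by_cases hz : z = 0
        · simp [hz]
        · simp [hall z hz]
      have h3 := hR.conj_diag 1 l ![l, (l * l)⁻¹] (by simp [Fin.prod_univ_two]; field_simp) ha
      have hb : (fun i => ![l, (l * l)⁻¹] i * ![(1 : F), 0] i / l) = ![(1 : F), 0] := by
        funext i; fin_cases i <;> simp [hl0]
      rw [hb] at h3
      have h4 := congrFun (hR.unique ha h3) 1
      simp at h4
      have h5 : a 1 ≠ 0 := fun h0 => ha0 (funext fun i => by fin_cases i <;> assumption)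
      have h6 : l * l = 1 := mul_left_cancel₀ h5 (by
        rw [mul_one]
        rw [div_eq_mul_inv, mul_inv, inv_inv] at h4
        exact h4.symm)
      exact hl (CharTwo.sq_injective (show l ^ 2 = (1 : F) ^ 2 by rw [sq, h6, one_pow]))
    · refine ha0 (funext fun i => ?_)
      obtain ⟨a', ha'⟩ := hR.exists_rel (Pi.single i (1 : F))
      have hs := hR.symm ha ha'
      have hal := halt _ _ (hR.add ha ha')
      rw [dotProduct_add, add_dotProduct, add_dotProduct, halt _ _ ha, halt _ _ ha', zero_add, add_zero,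
        ← hs, dotProduct_single, mul_one] at hal
      exact (mul_eq_zero.1 (show (2 : F) * a i = 0 by linear_combination hal)).resolve_left h2
  · let i0 : Fin k := ⟨0, by omega⟩
    let i1 : Fin k := ⟨1, by omega⟩
    let i2 : Fin k := ⟨2, by omega⟩
    obtain ⟨a, ha⟩ := hR.exists_rel (Pi.single i0 (1 : F))
    have h01 : i0 ≠ i1 := by simp [i0, i1]
    have h02 : i0 ≠ i2 := by simp [i0, i2]
    have h12 : i1 ≠ i2 := by simp [i1, i2]
    obtain ⟨c, hc⟩ := hline _ _ ha (Pi.single i1 1) (by simp) (by simp [h01.symm])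
    obtain ⟨c', hc'⟩ := hline _ _ ha (Pi.single i2 1) (by simp) (by simp [h02.symm])
    have : c = 0 := by
      have := congrFun (hc.symm.trans hc') i1
      simpa [h12] using this
    rw [this, zero_smul] at hc
    rw [hc] at ha
    simpa using congrFun (hR.right ha) i0

end IsRegular

end Cfsg.Agent.Lib.MinIndex
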